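import Groth.Agent.BunMod.K140.Defs3
import Groth.Agent.Dix.IdealModCartier
import Groth.Agent.Grpsch.PicGrp
import Groth.Prelude.Def_BunMod

/-!
# The theta line bundle of a sub-problem is the restriction of the theta line bundle

* `nonempty_iso_pullback`: inverses of ideals and pull-back.
* `theta_restrict`: if the theta ideals of all families of two problems come from the ideals of the theta loci and a
  morphism `i : M' ⟶ M` is compatible with the classifying maps, then `i^* Θ ≅ Θ'`.
-/

set_option autoImplicit false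
universe u

open CategoryTheory CategoryTheory.Limits AlgebraicGeometry TopologicalSpace Opposite

namespace K28.ThetaRes

open Groth.Agent Groth.Agent.Grpsch.PicGrp Groth.Agent.Dix.IdealModCartier K140.BM

/-- Inverses of ideals and pull-back. -/
theorem nonempty_iso_pullback {X X' : Scheme.{u}} (f : X ⟶ X') {D : X.IdealSheafData} {D' : X'.IdealSheafData}
    (hc : D'.comap f = D) {L : X.Modules} {L' : X'.Modules} (hL : ClSub.IsInverseOf L (ClSub.idealMod D))
    (hL' : ClSub.IsInverseOf L' (ClSub.idealMod D')) : Nonempty ((Scheme.Modules.pullback f).obj L' ≅ L) := by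
  subst hc
  have hI := (isInvertible_of_isInverseOf hL).2
  have hI' := (isInvertible_of_isInverseOf hL').2
  have hLi := (isInvertible_of_isInverseOf hL).1
  have hLi' := (isInvertible_of_isInverseOf hL').1
  obtain ⟨θ⟩ := pullback_idealMod f (isEffCartierIdeal_of_isInvertible hI') (isEffCartierIdeal_of_isInvertible hI)
  have h1 : mk L hLi * mk _ hI = 1 := by
    obtain ⟨e⟩ := hL
    rw [mk_mul_mk, mk_eq_one_iff]
    exact ⟨e⟩
  have h2 : mk L' hLi' * mk _ hI' = 1 := by
    obtain ⟨e⟩ := hL'
    rw [mk_mul_mk, mk_eq_one_iff]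
    exact ⟨e⟩
  have h3 : pull f (mk _ hI') = mk _ hI := by
    rw [pull_mk]
    exact mk_congr θ
  have h4 := congrArg (pull f) h2
  rw [map_mul, map_one, h3] at h4
  have h5 := mul_right_cancel (h4.trans h1.symm)
  rw [pull_mk, mk_eq_iff] at h5
  exact h5

variable {k : Type u} [Field k] {X : Scheme.{u}} [X.Over (Spec (CommRingCat.of k))]
  {Q Q' : ∀ T : Over (B0 k), (ModFun.modProb (st k X)).Fam T → Prop} {M M' : Over (B0 k)}

/-- **Restriction of theta line bundles.** -/
theorem theta_restrict (φ : ((ModFun.modProb (st k X)).restrict Q).Hom ⊤ M)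
    (φ' : ((ModFun.modProb (st k X)).restrict Q').Hom ⊤ M') (N : X.Modules)
    (h : ∀ (T : Over (B0 k)) (E : (PicF.XT (st k X) T).Modules)
      (hE : ((ModFun.modProb (st k X)).restrict Q).ok T E),
      (Scheme.IdealSheafData.vanishingIdeal ⟨BunMod.thetaLocus (st k X) Q φ N, isClosed_closure⟩).comap
        (φ.app T E trivial hE).left = thetaIdeal k N T E)
    (h' : ∀ (T : Over (B0 k)) (E : (PicF.XT (st k X) T).Modules)
      (hE : ((ModFun.modProb (st k X)).restrict Q').ok T E),
      (Scheme.IdealSheafData.vanishingIdeal ⟨BunMod.thetaLocus (st k X) Q' φ' N, isClosed_closure⟩).comap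
        (φ'.app T E trivial hE).left = thetaIdeal k N T E)
    (hinj : ∀ I I' : M'.left.IdealSheafData, (∀ (T : Over (B0 k)) (E : (PicF.XT (st k X) T).Modules)
      (hE : ((ModFun.modProb (st k X)).restrict Q').ok T E),
      I.comap (φ'.app T E trivial hE).left = I'.comap (φ'.app T E trivial hE).left) → I = I')
    (i : M' ⟶ M) (hi : ∀ (T : Over (B0 k)) (E : (PicF.XT (st k X) T).Modules)
      (hE' : ((ModFun.modProb (st k X)).restrict Q').ok T E),
      ∃ hE : ((ModFun.modProb (st k X)).restrict Q).ok T E, φ'.app T E trivial hE' ≫ i = φ.app T E trivial hE)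
    {Θ : M.left.Modules} {Θ' : M'.left.Modules} (hΘ : BunMod.IsThetaLB (st k X) Q φ N Θ)
    (hΘ' : BunMod.IsThetaLB (st k X) Q' φ' N Θ') :
    Nonempty ((Scheme.Modules.pullback i.left).obj Θ ≅ Θ') := by
  refine nonempty_iso_pullback i.left (hinj _ _ fun T E hE' => ?_) hΘ'.2 hΘ.2
  obtain ⟨hE, e⟩ := hi T E hE'
  rw [← Scheme.IdealSheafData.comap_comp, h' T E hE', ← Over.comp_left, e, h T E hE]

end K28.ThetaRes
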