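import Groth.Agent.BunMod.K28.SO
import Groth.Agent.BunMod.K28.ThetaRes
import Groth.Agent.BunMod.K319.ThetaSum
import Groth.Agent.BunMod.K319.SumFam
import Groth.Agent.LocPos.K924.NefJets

/-!
# The restriction of the theta line bundle to the twists of the trivial bundle

* `isInverseOf_pow`: powers of inverses of ideals.
* `thetaIdeal_sum`: the theta ideal of `ξ ↦ O^r ⊗ ξ` is the `r`-th power of the theta ideal of the Jacobian.
* `slice`: so `Θ` pulls back to `ΘJ^r`.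
-/

set_option autoImplicit false
universe u
open CategoryTheory Limits MonoidalCategory CartesianMonoidalCategory MonObj AlgebraicGeometry
open Groth.Agent Groth.Agent.Grpsch.PicGrp Groth.Agent.Dix.IdealModCartier
open K140.BM K757.TwistUSS K757.Fam K757.DetM0 K319.Dsum K319.ThetaSum K319.SumFam

namespace K28.B1

/-- Powers of inverses of ideals. -/
theorem isInverseOf_pow {Y : Scheme.{u}} {I : Y.IdealSheafData} {Θ : Y.Modules} (hΘ : PicF.IsInvertible Θ)
    (h : ClSub.IsInverseOf Θ (ClSub.idealMod I)) (n : ℕ) :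
    ClSub.IsInverseOf (CohB1.tensorPow Θ n) (ClSub.idealMod (I ^ n)) := by
  have hI := K28.Sec.isEff h
  have h1 : mk Θ hΘ * mk _ (isInvertible_idealMod hI) = 1 := by
    obtain ⟨e⟩ := h
    rw [mk_mul_mk, mk_eq_one_iff]
    exact ⟨e⟩
  have h2 := congrArg (· ^ n) h1
  simp only [mul_pow, one_pow] at h2
  rw [← K924.NefJets.mk_idealMod_pow hI n, ← mk_tensorPow hΘ n, mk_mul_mk, mk_eq_one_iff] at h2
  exact h2

variable {k : Type u} [Field k] {X : Scheme.{u}} [X.Over (Spec (CommRingCat.of k))]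
  [IsProper (st k X)] [Smooth (st k X)] [GeometricallyConnected (st k X)] (hdim : topologicalKrullDim X = 1)

include hdim in
/-- The trivial bundle is admissible. -/
theorem ok_ds (n : ℕ) (T : Over (B0 k)) : (BunMod.USSdet (st k X) (n + 1) (Coh.structureModule X)).ok T
    (ds (Coh.structureModule _) (Coh.structureModule _) n) := by
  have h1 := ussOK_dsO hdim (T := T) K757.Geo.picDeg_one n
  refine (ussDet_ok_iff hdim).2 ⟨⟨trivial, h1⟩, ?_⟩
  obtain ⟨D, -, hD⟩ := exists_det h1.1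
  obtain ⟨e⟩ := nonempty_of_isExtPow rank_one n hD
  obtain ⟨e'⟩ := pull_unit (pullback.fst (st k X) T.hom)
  exact ⟨D, hD, r_of_iso _ ⟨e' ≪≫ e.symm⟩⟩

variable {J : Over (B0 k)} [GrpObj J] {ψ : (ModFun.PicDeg (st k X) 0).Hom ⊤ J} (FJ : FineJ (st k X) J ψ)

omit [Smooth (st k X)] [GeometricallyConnected (st k X)] in
include hdim in
/-- The theta ideal of `ξ ↦ O^(n+1) ⊗ ξ`. -/
theorem thetaIdeal_sum {N : X.Modules} (hN : FlatMod.IsFinLocFree N) (n : ℕ) :
    thetaIdeal k N J (CohB1.tensorMod (pl (st k X) (toUnit J) (ds (Coh.structureModule _) (Coh.structureModule _) n))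
      FJ.P) = thetaIdeal k N J FJ.P ^ (n + 1) := by
  have hP : FlatMod.IsFinLocFreeOfRank 1 FJ.P := K707.TensL.rank_one_iff.mpr (K757.Geo.picDeg_ok_iff.1 FJ.ok).1
  obtain ⟨e⟩ : Nonempty (CohB1.tensorMod (pl (st k X) (toUnit J)
      (ds (Coh.structureModule _) (Coh.structureModule _) n)) FJ.P ≅ ds FJ.P FJ.P n) := by
    obtain ⟨e1⟩ := ds_pull (PicF.XTmap (st k X) (toUnit J)) (Coh.structureModule _) (Coh.structureModule _) n
    obtain ⟨e2⟩ := ds_iso (pull_unit (PicF.XTmap (st k X) (toUnit J))) (pull_unit (PicF.XTmap (st k X) (toUnit J))) n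
    obtain ⟨e3⟩ := tens_congr ⟨e1 ≪≫ e2⟩ ⟨Iso.refl FJ.P⟩
    obtain ⟨e4⟩ := ds_tensor (Coh.structureModule _) (Coh.structureModule _) FJ.P n
    obtain ⟨e5⟩ := ds_iso (unit_tens FJ.P) (unit_tens FJ.P) n
    exact ⟨e3 ≪≫ e4 ≪≫ e5⟩
  have hds := rank_ds hP hP n
  have hds' := K707.Base.isFinLocFree_of_rank hds
  rw [K54.Theta.thetaIdeal_iso hdim.le hN ?_ hds' e, thetaIdeal_ds hdim.le hN hP hP n, pow_succ, mul_comm]
  exact K707.Base.isFinLocFree_of_rank (K757.Geo.rank_tens (K757.Geo.rank_pull _ (rank_ds rank_one rank_one n))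
    (K757.Geo.picDeg_ok_iff.1 FJ.ok).1)

variable {r : ℕ} {M : Over (B0 k)} (φ : (BunMod.USS (st k X) r 0).Hom ⊤ M)

include hdim in
/-- **The restriction of `Θ`.** -/
theorem slice [IsAlgClosed k] {N : X.Modules} (hN : FlatMod.IsFinLocFree N)
    {n : ℕ} {M : Over (B0 k)} (φ : (BunMod.USS (st k X) (n + 1) 0).Hom ⊤ M)
    (hθ : ∀ (T : Over (B0 k)) (E : (PicF.XT (st k X) T).Modules) (hE : (BunMod.USS (st k X) (n + 1) 0).ok T E),
      (Scheme.IdealSheafData.vanishingIdeal ⟨BunMod.thetaLocus (st k X) (BunMod.ussOK (st k X) (n + 1) 0) φ N,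
        isClosed_closure⟩).comap (φ.app T E trivial hE).left = thetaIdeal k N T E)
    (hR1 : Scheme.IdealSheafData.vanishingIdeal ⟨Jac.thetaLocus (st k X) 0 ψ N, isClosed_closure⟩ =
      thetaIdeal k N J FJ.P)
    {Θ : M.left.Modules} (hΘ : BunMod.IsThetaLB (st k X) (BunMod.ussOK (st k X) (n + 1) 0) φ N Θ)
    {ΘJ : J.left.Modules} (hΘJ : Jac.IsThetaLB (st k X) 0 ψ N ΘJ) :
    K28.SO.Slice FJ φ (ds (Coh.structureModule _) (Coh.structureModule _) n) Θ ΘJ := by
  intro h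
  refine K28.ThetaRes.nonempty_iso_pullback _ ?_ (isInverseOf_pow hΘJ.1 hΘJ.2 (n + 1)) hΘ.2
  rw [hθ J _ h, thetaIdeal_sum hdim FJ hN n, hR1]

end K28.B1
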