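import Groth.Agent.BunMod.K319.Seesaw
import Groth.Agent.BunMod.K757.DetM0
import Groth.Agent.BunMod.K824.Join

/-!
# The points of a moduli space of bundles with fixed determinant are linked

`lnk`: two rational points which are classes of bundles are values of a morphism from an open of the affine line
(`K824.Join.exists_family`).
-/

set_option autoImplicit false
universe u
open CategoryTheory Limits MonoidalCategory CartesianMonoidalCategory AlgebraicGeometry
open K319.Seesaw K518.Phi

namespace K28.Lnk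

/-- `Spec k[t]_f` is an open subscheme of the affine line. -/
theorem exists_open {k : Type u} [Field k] (f : Polynomial k) :
    ∃ j : (Over.mk (Spec.map (CommRingCat.ofHom (algebraMap k (Localization.Away f)))) :
      Over (Spec (CommRingCat.of k))) ⟶ AS k 1, IsOpenImmersion j.left := by
  let e : MvPolynomial (ULift.{u} (Fin 1)) k ≃ₐ[k] Polynomial k := MvPolynomial.uniqueAlgEquiv k (ULift.{u} (Fin 1))
  let j₀ : Spec (CommRingCat.of (Localization.Away f)) ⟶
      Spec (CommRingCat.of (MvPolynomial (ULift.{u} (Fin 1)) k)) :=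
    Spec.map (CommRingCat.ofHom (algebraMap (Polynomial k) (Localization.Away f))) ≫
      Spec.map (CommRingCat.ofHom e.toRingEquiv.toRingHom)
  have h1 : IsOpenImmersion (Spec.map (CommRingCat.ofHom (algebraMap (Polynomial k) (Localization.Away f)))) :=
    inferInstance
  have h2 : IsIso (Spec.map (CommRingCat.ofHom e.toRingEquiv.toRingHom)) := by
    have : IsIso (CommRingCat.ofHom e.toRingEquiv.toRingHom) := (e.toRingEquiv.toCommRingCatIso).isIso_hom
    infer_instance
  have h3 : IsOpenImmersion j₀ := inferInstance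
  refine ⟨Over.homMk (j₀ ≫ (AffineSpace.SpecIso (ULift.{u} (Fin 1)) (CommRingCat.of k)).inv) ?_, ?_⟩
  · simp only [Over.mk_hom, Category.assoc, AffineSpace.SpecIso_inv_over]
    have h4 : (algebraMap k (Localization.Away f)) = ((algebraMap (Polynomial k) (Localization.Away f)).comp
        e.toRingEquiv.toRingHom).comp MvPolynomial.C := by
      ext x
      have h5 : e.toRingEquiv.toRingHom (MvPolynomial.C x) = algebraMap k (Polynomial k) x := e.commutes x
      rw [RingHom.comp_apply, RingHom.comp_apply, h5, ← IsScalarTower.algebraMap_apply]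
    rw [h4, CommRingCat.ofHom_comp, CommRingCat.ofHom_comp, Spec.map_comp, Spec.map_comp]
  · change IsOpenImmersion (j₀ ≫ _)
    infer_instance

variable (k : Type u) [Field k] [IsAlgClosed k] (X : Scheme.{u}) [X.Over (Spec (CommRingCat.of k))]
  [IsProper (X ↘ Spec (CommRingCat.of k))] [Smooth (X ↘ Spec (CommRingCat.of k))]
  [GeometricallyConnected (X ↘ Spec (CommRingCat.of k))] (hdim : topologicalKrullDim X = 1)

include hdim in
/-- **Links.** -/
theorem lnk {r : ℕ} (hr : 1 ≤ r) {L : X.Modules} (hL : Curv2.deg k X L 1 = 0)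
    {M₀ : Over (Spec (CommRingCat.of k))} (φ : (BunMod.USSdet (X ↘ Spec (CommRingCat.of k)) r L).Hom ⊤ M₀)
    (hs : ∀ z : Pt M₀, ∃ (F : (ModFun.modProb (X ↘ Spec (CommRingCat.of k))).Fam (𝟙_ (Over (Spec (CommRingCat.of k)))))
      (hF : (BunMod.USSdet (X ↘ Spec (CommRingCat.of k)) r L).ok (𝟙_ (Over (Spec (CommRingCat.of k)))) F),
      φ.app _ F trivial hF = z) (z z' : Pt M₀) : Lnk M₀ z z' := by
  obtain ⟨F₀, h₀, rfl⟩ := hs z
  obtain ⟨F₁, h₁, rfl⟩ := hs z'
  obtain ⟨f, w₀, w₁, F, -, hF, e₀, e₁⟩ := K824.Join.exists_family k X hdim hr hL h₀.2 h₁.2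
  have hFo : (BunMod.USSdet (X ↘ Spec (CommRingCat.of k)) r L).ok _ F := ⟨trivial, hF⟩
  have key : ∀ (w : 𝟙_ (Over (Spec (CommRingCat.of k))) ⟶ K824.Join.sA k (Localization.Away f))
      (F' : (ModFun.modProb (X ↘ Spec (CommRingCat.of k))).Fam (𝟙_ (Over (Spec (CommRingCat.of k)))))
      (h' : (BunMod.USSdet (X ↘ Spec (CommRingCat.of k)) r L).ok (𝟙_ (Over (Spec (CommRingCat.of k)))) F'),
      Nonempty (K757.Fam.pl (X ↘ Spec (CommRingCat.of k)) w F ≅ F') →
        w ≫ φ.app _ F trivial hFo = φ.app _ F' trivial h' := by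
    intro w F' h' e
    have h1 : (BunMod.USSdet (X ↘ Spec (CommRingCat.of k)) r L).ok (𝟙_ (Over (Spec (CommRingCat.of k))))
        ((BunMod.USSdet (X ↘ Spec (CommRingCat.of k)) r L).pull w F) := ⟨trivial, K757.DetM0.ussDetOK_pull w hF⟩
    rw [← φ.natural w F trivial trivial hFo h1]
    exact φ.resp _ _ trivial _ _ (K757.Fam.r_of_iso _ e)
  rw [← key w₀ F₀ h₀ e₀, ← key w₁ F₁ h₁ e₁]
  obtain ⟨j, hj⟩ := exists_open f
  exact ⟨1, _, j, hj, _, w₀, w₁, rfl, rfl⟩

end K28.Lnk
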