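import Groth.Agent.AbVar.K518.Phi
import Groth.Agent.S0383
import Groth.Agent.Fdesc.GeomAlgClosed
import Groth.Agent.Sga3C.GeomRedPerf
import Mathlib.AlgebraicGeometry.AlgClosed.Basic
import Mathlib.AlgebraicGeometry.Geometrically.Integral

/-!
# Rational points over an algebraically closed field

* `exists_pt_mem`: a nonempty open contains a rational point.
* `exists_pt_lift`: rational points lift along surjective morphisms.
* `exists_pt_pow`: rational points of an abelian variety have `n`-th roots.
-/

set_option autoImplicit false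
universe u

open CategoryTheory Limits MonoidalCategory CartesianMonoidalCategory AlgebraicGeometry
open scoped MonObj
open Groth.Agent.Grpsch.PicGrp Groth.Agent.Grpsch.Cube
open K518.Phi

namespace K28.Pts

variable {k : Type u} [Field k]

/-- A nonempty open contains a rational point. -/
theorem exists_pt_mem [IsAlgClosed k] {M : Over (Spec (CommRingCat.of k))} [LocallyOfFiniteType M.hom]
    (U : M.left.Opens) (hU : (U : Set M.left).Nonempty) : ∃ m : Pt M, ∀ a, m.left a ∈ U := by
  have hJ : JacobsonSpace M.left := LocallyOfFiniteType.jacobsonSpace M.hom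
  obtain ⟨x, hx, hx'⟩ := nonempty_inter_closedPoints hU U.2.isLocallyClosed
  refine ⟨Over.homMk (pointOfClosedPoint M.hom x hx') (pointOfClosedPoint_comp _ _ _), fun a => ?_⟩
  change pointOfClosedPoint M.hom x hx' a ∈ U
  rw [pointOfClosedPoint_apply]
  exact hx

/-- Rational points lift along surjective morphisms. -/
theorem exists_pt_lift [IsAlgClosed k] {A B : Over (Spec (CommRingCat.of k))} [LocallyOfFiniteType A.hom]
    [LocallyOfFiniteType B.hom] (g : A ⟶ B) [Surjective g.left] (b : Pt B) : ∃ a : Pt A, a ≫ g = b := by
  have hJ : JacobsonSpace A.left := LocallyOfFiniteType.jacobsonSpace A.hom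
  have hb : IsClosed ({b.left (IsLocalRing.closedPoint k)} : Set B.left) :=
    (pointEquivClosedPoint B.hom ⟨b.left, Over.w b⟩).2
  obtain ⟨x₀, hx₀⟩ := g.left.surjective (b.left (IsLocalRing.closedPoint k))
  obtain ⟨x, hx, hx'⟩ := nonempty_inter_closedPoints (Z := g.left ⁻¹' {b.left (IsLocalRing.closedPoint k)})
    ⟨x₀, hx₀⟩ (hb.preimage g.left.continuous).isLocallyClosed
  refine ⟨Over.homMk (pointOfClosedPoint A.hom x hx') (pointOfClosedPoint_comp _ _ _), ?_⟩
  apply Over.OverMorphism.ext
  apply ext_of_apply_closedPoint_eq B.hom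
  · exact Over.w (_ : Pt B)
  · exact Over.w b
  · change g.left (pointOfClosedPoint A.hom x hx' (IsLocalRing.closedPoint k)) = _
    rw [pointOfClosedPoint_apply]
    exact hx

/-- Roots of rational points. -/
theorem exists_pt_pow [IsAlgClosed k] (J : Over (Spec (CommRingCat.of k))) [GrpObj J] [IsProper J.hom]
    [GeometricallyIntegral J.hom] {n : ℕ} (hn : 1 ≤ n) (y : Pt J) : ∃ x : Pt J, x ^ n = y := by
  have hsurj := Groth.Agent.S0383.result k J n hn
  obtain ⟨x, hx⟩ := exists_pt_lift ((𝟙 J) ^ n) y
  refine ⟨x, ?_⟩
  rw [MonObj.comp_pow, Category.comp_id] at hx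
  exact hx

/-- Integral schemes over an algebraically closed field are geometrically integral. -/
theorem geometricallyIntegral [IsAlgClosed k] {Y : Scheme.{u}} (f : Y ⟶ Spec (CommRingCat.of k)) [IsIntegral Y] :
    GeometricallyIntegral f := by
  have hgr : GeometricallyReduced f := Groth.Agent.Sga3C.GeomRedPerf.geometricallyReduced_of_isReduced f
  have hgir : GeometricallyIrreducible f :=
    Groth.Agent.Fdesc.GeomAlgClosed.geometricallyIrreducible_of_irreducibleSpace f
  exact GeometricallyIntegral.of_geometricallyReduced_of_geometricallyIrreducible f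

end K28.Pts
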