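import Groth.Agent.BunMod.K28.B1
import Groth.Agent.BunMod.K28.Lnk
import Groth.Agent.BunMod.K28.Pts
import Groth.Agent.BunMod.K757.OnM
import Groth.Agent.BunMod.K140.Comap
import Groth.Agent.BunMod.K319.InpAtl
import Groth.Agent.BunMod.K356.FamForm

/-!
# The properties of a moduli space that come from an atlas

`Props φ N` (`φ : F ⟶ Hom(-, M)` a best approximation, `N` a module on the curve): universality of `φ`, `M` proper and
normal, the theta ideal of a family is the pull-back of the ideal of the theta locus, ideals on `M` are determined by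
their pull-backs to families, rational points of `M` are classes of bundles.

* `data`: `Props` from an atlas with normal quotient for which the theta ideal descends.
* `connectedSpace_det`, `isIntegral_det`: the moduli space of bundles with fixed determinant is integral.
-/

set_option autoImplicit false
universe u

open CategoryTheory CategoryTheory.Limits AlgebraicGeometry MonoidalCategory CartesianMonoidalCategory

namespace K28.Data

open Groth.Agent K140.BM K757.HomOver K757.OnM K518.Phi K319.Seesaw

variable {k : Type u} [Field k] {X : Scheme.{u}} [X.Over (Spec (CommRingCat.of k))]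
  {Q : ∀ T : Over (B0 k), (ModFun.modProb (st k X)).Fam T → Prop}

/-- `φ` is the morphism to the quotient of the atlas. -/
def IsQuotHom (A : AtlasC k X Q) (φ : ((ModFun.modProb (st k X)).restrict Q).Hom ⊤ A.M) : Prop :=
  ∀ (T : Over (B0 k)) (c : T ⟶ A.Z) (h : ((ModFun.modProb (st k X)).restrict Q).ok T (pl k X c A.E)),
    φ.app T (pl k X c A.E) trivial h = c ≫ A.π

/-- The theta ideal descends to the ideal of the theta locus. -/
def ThetaMain (Q : ∀ T : Over (B0 k), (ModFun.modProb (st k X)).Fam T → Prop) (N : X.Modules) : Prop :=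
  ∀ (A : AtlasC k X Q) (φ : ((ModFun.modProb (st k X)).restrict Q).Hom ⊤ A.M), IsQuotHom A φ →
    (Scheme.IdealSheafData.vanishingIdeal
      ⟨BunMod.thetaLocus (st k X) Q φ N, isClosed_closure⟩).comap A.π.left = thetaIdeal k N A.Z A.E

/-- The properties of a moduli space. -/
structure Props {M : Over (B0 k)} (φ : ((ModFun.modProb (st k X)).restrict Q).Hom ⊤ M) : Prop where
  univ : UnivBest φ
  proper : IsProper M.hom
  normal : Pi1.IsNormalScheme M.left
  inj : ∀ I I' : M.left.IdealSheafData, (∀ (T : Over (B0 k)) (E : (PicF.XT (st k X) T).Modules)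
    (hE : ((ModFun.modProb (st k X)).restrict Q).ok T E),
    I.comap (φ.app T E trivial hE).left = I'.comap (φ.app T E trivial hE).left) → I = I'
  surj : ∀ z : Pt M, ∃ (F : (ModFun.modProb (st k X)).Fam (𝟙_ (Over (B0 k))))
    (hF : ((ModFun.modProb (st k X)).restrict Q).ok (𝟙_ (Over (B0 k))) F), φ.app _ F trivial hF = z

/-- **The properties of a moduli space with an atlas.** -/
theorem props [IsAlgClosed k]
    (hQp : ∀ {T T' : Over (B0 k)} (g : T' ⟶ T) (E : (PicF.XT (st k X) T).Modules), Q T E → Q T' (pl k X g E))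
    (A : AtlasC k X Q) (hn : Pi1.IsNormalScheme A.M.left)
    {M : Over (B0 k)} {φ : ((ModFun.modProb (st k X)).restrict Q).Hom ⊤ M}
    (hM : ModFun.IsBestApprox ⊤ ((ModFun.modProb (st k X)).restrict Q) M φ) : Props φ := by
  obtain ⟨h1, e, he⟩ := exists_ofIso A hQp hM
  have hcomap := (ofIso A e).comap_injective
  have hπ : φ.app A.Z (pl k X (𝟙 A.Z) A.E) trivial ⟨trivial, hQp _ _ A.ok⟩ = (ofIso A e).π :=
    (he A.Z (𝟙 _) ⟨trivial, hQp _ _ A.ok⟩).trans (Category.id_comp _)
  refine ⟨h1, (ofIso A e).prop, ?_, fun I I' h => ?_, fun z => ?_⟩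
  · have : IsIso e.hom.left := isIso_left e
    exact K319.InpAtl.normal_of_iso e.hom.left hn
  · have h3 := h A.Z (pl k X (𝟙 A.Z) A.E) ⟨trivial, hQp _ _ A.ok⟩
    rw [hπ] at h3
    exact hcomap h3
  · have hp : IsProper M.hom := (ofIso A e).prop
    have hs : Surjective (A.π ≫ e.hom).left := ⟨(ofIso A e).surj⟩
    have : LocallyOfFiniteType A.Z.hom := A.ft
    obtain ⟨c, hc⟩ := K28.Pts.exists_pt_lift (A := A.Z) (B := M) (A.π ≫ e.hom) z
    exact ⟨pl k X c A.E, ⟨trivial, hQp _ _ A.ok⟩, (he _ c _).trans hc⟩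

/-- The theta ideal of a family is the pull-back of the ideal of the theta locus. -/
def FamForm {M : Over (B0 k)} (φ : ((ModFun.modProb (st k X)).restrict Q).Hom ⊤ M) (N : X.Modules) : Prop :=
  ∀ (T : Over (B0 k)) (E : (PicF.XT (st k X) T).Modules) (hE : ((ModFun.modProb (st k X)).restrict Q).ok T E),
    (Scheme.IdealSheafData.vanishingIdeal ⟨BunMod.thetaLocus (st k X) Q φ N, isClosed_closure⟩).comap
      (φ.app T E trivial hE).left = thetaIdeal k N T E

/-- The theta ideal on a given moduli space. -/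
theorem famForm [IsProper (st k X)] (hdim : topologicalKrullDim X ≤ 1) {N : X.Modules}
    (hN : FlatMod.IsFinLocFree N)
    (hQf : ∀ (T : Over (B0 k)) (E : (PicF.XT (st k X) T).Modules), Q T E → FlatMod.IsFinLocFree E)
    (hQp : ∀ {T T' : Over (B0 k)} (g : T' ⟶ T) (E : (PicF.XT (st k X) T).Modules), Q T E → Q T' (pl k X g E))
    (A : AtlasC k X Q) (hθ : ThetaMain Q N)
    {M : Over (B0 k)} {φ : ((ModFun.modProb (st k X)).restrict Q).Hom ⊤ M}
    (hM : ModFun.IsBestApprox ⊤ ((ModFun.modProb (st k X)).restrict Q) M φ) : FamForm φ N := by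
  obtain ⟨-, e, he⟩ := exists_ofIso A hQp hM
  exact Groth.Agent.BunMod.K356.FamForm.fam_form (ofIso A e) hdim hN hQf hQp φ he _ (hθ (ofIso A e) φ he)

/-- Moduli spaces whose rational points are linked are integral. -/
theorem isIntegral_of_lnk [IsAlgClosed k] {M : Over (B0 k)}
    {φ : ((ModFun.modProb (st k X)).restrict Q).Hom ⊤ M} (h : Props φ) (hne : Nonempty (Pt M))
    (hl : ∀ z z' : Pt M, Lnk M z z') : IsIntegral M.left := by
  obtain ⟨z₀⟩ := hne
  have := h.proper
  have hc : ConnectedSpace (𝟙_ (Over (B0 k))).left := inferInstanceAs (ConnectedSpace (PrimeSpectrum k))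
  have := K319.ConnM.connectedSpace (toUnit M) z₀ (fun y => hl _ _)
  exact (K319.IntM.geomInt h.normal).1

end K28.Data
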