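import Groth.Agent.BunMod.K356.FamForm
import Groth.Agent.BunMod.K757.TwistUSS
import Mathlib.FieldTheory.IsAlgClosed.AlgebraicClosure

/-!
# The theta ideal of families of line bundles and the Jacobian

* `thetaIdeal_r`: the theta ideal depends only on the class of the family.
* `comap_psi`: the theta ideal of a family `L` is the pull-back of the theta ideal of the universal family `P` on the
  Jacobian.
* `thetaLocus_eq`: the theta locus is the support of the theta ideal of `P`.
* `main_of_radical`: if the theta ideal of `P` is radical, the ideal of the theta locus pulls back to the theta ideal of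
  every family.
-/

set_option autoImplicit false
universe u

open CategoryTheory CategoryTheory.Limits AlgebraicGeometry TopologicalSpace Opposite
open scoped MonObj

namespace K28.R1Fam

open Groth.Agent K140.BM K757.TwistUSS Groth.Agent.BunMod.K356.FamForm

variable {k : Type u} [Field k] {X : Scheme.{u}} [X.Over (Spec (CommRingCat.of k))]

/-- The theta ideal only depends on the class of the family. -/
theorem thetaIdeal_r [IsProper (st k X)] (hdim : topologicalKrullDim X ≤ 1) {N : X.Modules}
    (hN : FlatMod.IsFinLocFree N) {T : Over (B0 k)} {E E' : (PicF.XT (st k X) T).Modules}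
    (hE : FlatMod.IsFinLocFree E) (hE' : FlatMod.IsFinLocFree E') (h : (ModFun.modProb (st k X)).r T E E') :
    thetaIdeal k N T E = thetaIdeal k N T E' := by
  refine ideal_ext _ _ fun t => ?_
  obtain ⟨U, htU, ⟨e⟩⟩ := K757.Fam.loc_iso_of_r h t
  refine ⟨U, htU, ?_⟩
  have h1 : (thetaIdeal k N T E).comap U.ι = thetaIdeal k N (opn T U) (pl k X (opi T U) E) :=
    K54.Theta.thetaIdeal_pl hdim hN (opi T U) hE
  have h2 : (thetaIdeal k N T E').comap U.ι = thetaIdeal k N (opn T U) (pl k X (opi T U) E') :=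
    K54.Theta.thetaIdeal_pl hdim hN (opi T U) hE'
  rw [h1, h2]
  exact K54.Theta.thetaIdeal_iso hdim hN (PerfC.PullRestrict.isFinLocFree_pullback _ hE)
    (PerfC.PullRestrict.isFinLocFree_pullback _ hE') e.symm

variable {J : Over (Spec (CommRingCat.of k))} [GrpObj J] {ψ : (ModFun.PicDeg (st k X) 0).Hom ⊤ J}
  (FJ : FineJ (st k X) J ψ)

theorem flf_of_inv {Y : Scheme.{u}} {L : Y.Modules} (hL : PicF.IsInvertible L) : FlatMod.IsFinLocFree L :=
  K707.Base.isFinLocFree_of_rank (K707.TensL.rank_one_iff.mpr hL)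

/-- The theta ideal of a family of line bundles comes from the Jacobian. -/
theorem comap_psi [IsProper (st k X)] (hdim : topologicalKrullDim X ≤ 1) {N : X.Modules}
    (hN : FlatMod.IsFinLocFree N) {T : Over (B0 k)} {L : (PicF.XT (st k X) T).Modules}
    (hL : (ModFun.PicDeg (st k X) 0).ok T L) :
    (thetaIdeal k N J FJ.P).comap (ψ.app T L trivial hL).left = thetaIdeal k N T L := by
  have hP : FlatMod.IsFinLocFree FJ.P := flf_of_inv (K757.Geo.picDeg_ok_iff.1 FJ.ok).1
  rw [K54.Theta.thetaIdeal_pl hdim hN (ψ.app T L trivial hL) hP]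
  exact thetaIdeal_r hdim hN (PerfC.PullRestrict.isFinLocFree_pullback _ hP)
    (flf_of_inv (K757.Geo.picDeg_ok_iff.1 hL).1) (FJ.fine T L hL)

/-- Geometric points. -/
theorem exists_geom_pt (T : Over (B0 k)) (t : T.left) : ∃ (Ω : Type u) (_ : Field Ω) (_ : IsAlgClosed Ω)
    (s : Spec (CommRingCat.of Ω) ⟶ B0 k) (c : Over.mk s ⟶ T) (p : (Over.mk s).left), c.left p = t := by
  let Ω := AlgebraicClosure (T.left.residueField t)
  let a : Spec (CommRingCat.of Ω) ⟶ T.left :=
    Spec.map (CommRingCat.ofHom (algebraMap (T.left.residueField t) Ω)) ≫ T.left.fromSpecResidueField t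
  refine ⟨Ω, inferInstance, inferInstance, a ≫ T.hom, Over.homMk a rfl, IsLocalRing.closedPoint Ω, ?_⟩
  change a _ = t
  rw [Scheme.Hom.comp_apply]
  exact T.left.fromSpecResidueField_apply t _

/-- The support of the theta ideal of the universal family, at geometric points. -/
def SuppAt (N : X.Modules) : Prop :=
  ∀ (Ω : Type u) [Field Ω] [IsAlgClosed Ω] (s : Spec (CommRingCat.of Ω) ⟶ B0 k) (c : Over.mk s ⟶ J)
    (p : (Over.mk s).left), c.left p ∈ ((thetaIdeal k N J FJ.P).support : Set J.left) ↔
      ¬ Subsingleton (Coh.HH (PicF.XT (st k X) (Over.mk s)) (CohB1.tensorMod (pl k X c FJ.P) (cst k (Over.mk s) N)) 0)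

/-- The theta locus is the support of the theta ideal. -/
theorem thetaLocus_eq {N : X.Modules} (hs : SuppAt FJ N) :
    Jac.thetaLocus (st k X) 0 ψ N = ((thetaIdeal k N J FJ.P).support : Set J.left) := by
  have h : Jac.jumpLocus (st k X) 0 ψ N = ((thetaIdeal k N J FJ.P).support : Set J.left) := by
    ext x
    constructor
    · rintro ⟨Ω, _, _, s, -, L, hL, h1, p, rfl⟩
      obtain ⟨e⟩ := K757.Geo.iso_of_r (FJ.fine (Over.mk s) L hL)
      refine (hs Ω s (ψ.app (Over.mk s) L trivial hL) p).2 fun h2 => h1 ?_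
      obtain ⟨e'⟩ := K757.Fam.tens_congr ⟨e⟩ ⟨Iso.refl (cst k (Over.mk s) N)⟩
      let : (PicF.XT (st k X) (Over.mk s)).Over (Spec (CommRingCat.of Ω)) := ⟨PicF.XTproj (st k X) (Over.mk s)⟩
      exact (VarietyA.EulerLES.equivA Ω e' 0).symm.toEquiv.subsingleton
    · intro hx
      obtain ⟨Ω, _, _, s, c, p, rfl⟩ := exists_geom_pt J x
      refine ⟨Ω, inferInstance, inferInstance, s, trivial, pl k X c FJ.P, FJ.ok_at c, (hs Ω s c p).1 hx, p, ?_⟩
      change (ψ.app (Over.mk s) (FJ.at' c) trivial (FJ.ok_at c)).left p = c.left p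
      rw [FJ.psi_at]
  rw [Jac.thetaLocus, h]
  exact (thetaIdeal k N J FJ.P).support.isClosed.closure_eq

/-- **R1** for the universal family, from radicality. -/
theorem vanishingIdeal_eq {N : X.Modules} (hs : SuppAt FJ N)
    (hr : (thetaIdeal k N J FJ.P).radical = thetaIdeal k N J FJ.P) :
    Scheme.IdealSheafData.vanishingIdeal ⟨Jac.thetaLocus (st k X) 0 ψ N, isClosed_closure⟩ =
      thetaIdeal k N J FJ.P := by
  have h : (⟨Jac.thetaLocus (st k X) 0 ψ N, isClosed_closure⟩ : Closeds J.left) = (thetaIdeal k N J FJ.P).support :=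
    Closeds.ext (thetaLocus_eq FJ hs)
  rw [h, Scheme.IdealSheafData.vanishingIdeal_support, hr]

/-- **R1** from radicality. -/
theorem main_of_radical [IsProper (st k X)] (hdim : topologicalKrullDim X ≤ 1) {N : X.Modules}
    (hN : FlatMod.IsFinLocFree N) (hs : SuppAt FJ N)
    (hr : (thetaIdeal k N J FJ.P).radical = thetaIdeal k N J FJ.P)
    {T : Over (B0 k)} {L : (PicF.XT (st k X) T).Modules} (hL : (ModFun.PicDeg (st k X) 0).ok T L) :
    (Scheme.IdealSheafData.vanishingIdeal ⟨Jac.thetaLocus (st k X) 0 ψ N, isClosed_closure⟩).comap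
      (ψ.app T L trivial hL).left = thetaIdeal k N T L := by
  rw [vanishingIdeal_eq FJ hs hr, comap_psi FJ hdim hN hL]

end K28.R1Fam
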