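import Groth.Agent.BunMod.K28.Data
import Groth.Agent.BunMod.K28.R1Fam
import Groth.Agent.BunMod.K757.SubDet

/-!
# The structure theorem for the moduli spaces of semistable bundles, from the common inputs

Inputs: `AtlasC` with normal quotient for the semistable bundles of degree `0`, and for fixed determinant (`Inp`);
the ideal of the theta locus pulls back to the theta ideal of every family (`FamForm`); the ideal of the theta divisor of
the Jacobian (`R1`).

* `exists_str`, `exists_str_of_det`, `exists_str_of_det_one`.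
-/

set_option autoImplicit false
set_option linter.unusedSectionVars false
universe u
open CategoryTheory Limits MonoidalCategory CartesianMonoidalCategory MonObj AlgebraicGeometry
open Groth.Agent K140.BM K518.Phi K319.Seesaw K757.TwistUSS K757.HomOver K757.Act K757.DetM0 K757.Fam K757.Root
open K28.SO K28.Data K319.Dsum

namespace K28.Final

variable {k : Type u} [Field k] [IsAlgClosed k] {X : Scheme.{u}} [X.Over (Spec (CommRingCat.of k))]
  [IsProper (X ↘ Spec (CommRingCat.of k))] [Smooth (X ↘ Spec (CommRingCat.of k))]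
  [GeometricallyConnected (X ↘ Spec (CommRingCat.of k))] (hdim : topologicalKrullDim ↥X = 1)

theorem nonempty_left {M : Over (B0 k)} (h : Nonempty (Pt M)) : Nonempty M.left :=
  h.elim fun z => ⟨z.left (IsLocalRing.closedPoint k)⟩

variable {r : ℕ}

/-- The inputs. -/
structure Inp (Q : ∀ T : Over (B0 k), (ModFun.modProb (st k X)).Fam T → Prop) : Prop where
  atlas : Nonempty (AtlasC k X Q)
  normal : ∀ A : AtlasC k X Q, Pi1.IsNormalScheme A.M.left

theorem props_uss (I : Inp (BunMod.ussOK (st k X) r 0)) {M : Over (B0 k)} {φ : (BunMod.USS (st k X) r 0).Hom ⊤ M}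
    (hM : ModFun.IsBestApprox ⊤ (BunMod.USS (st k X) r 0) M φ) : Props φ := by
  obtain ⟨A⟩ := I.atlas
  exact props (fun g _ h => K757.Geo.ussOK_pull g h) A (I.normal A) hM

theorem props_ussdet {L : X.Modules} (I : Inp (BunMod.ussDetOK (st k X) r L)) {M : Over (B0 k)}
    {φ : (BunMod.USSdet (st k X) r L).Hom ⊤ M}
    (hM : ModFun.IsBestApprox ⊤ (BunMod.USSdet (st k X) r L) M φ) : Props φ := by
  obtain ⟨A⟩ := I.atlas
  exact props (fun g _ h => ussDetOK_pull g h) A (I.normal A) hM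

include hdim in
theorem fam_uss {N : X.Modules} (hN : PicF.IsInvertible N) (I : Inp (BunMod.ussOK (st k X) r 0))
    (hθ : ThetaMain (BunMod.ussOK (st k X) r 0) N) {M : Over (B0 k)} {φ : (BunMod.USS (st k X) r 0).Hom ⊤ M}
    (hM : ModFun.IsBestApprox ⊤ (BunMod.USS (st k X) r 0) M φ) : FamForm φ N := by
  obtain ⟨A⟩ := I.atlas
  exact famForm hdim.le (K28.R1Fam.flf_of_inv hN) (fun _ _ h => K707.Base.isFinLocFree_of_rank h.1)
    (fun g _ h => K757.Geo.ussOK_pull g h) A hθ hM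

include hdim in
theorem fam_ussdet {N : X.Modules} (hN : PicF.IsInvertible N) {L : X.Modules}
    (I : Inp (BunMod.ussDetOK (st k X) r L)) (hθ : ThetaMain (BunMod.ussDetOK (st k X) r L) N) {M : Over (B0 k)}
    {φ : (BunMod.USSdet (st k X) r L).Hom ⊤ M}
    (hM : ModFun.IsBestApprox ⊤ (BunMod.USSdet (st k X) r L) M φ) : FamForm φ N := by
  obtain ⟨A⟩ := I.atlas
  exact famForm hdim.le (K28.R1Fam.flf_of_inv hN) (fun _ _ h => K707.Base.isFinLocFree_of_rank h.1)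
    (fun g _ h => ussDetOK_pull g h) A hθ hM

variable {J : Over (Spec (CommRingCat.of k))} [GrpObj J] [IsCommMonObj J]
  {ψ : (ModFun.PicDeg (X ↘ Spec (CommRingCat.of k)) 0).Hom ⊤ J}

/-- The ideal of the theta locus of the Jacobian is the theta ideal. -/
def R1 (ψ : (ModFun.PicDeg (X ↘ Spec (CommRingCat.of k)) 0).Hom ⊤ J) (N : X.Modules) : Prop :=
  ∀ FJ : FineJ (st k X) J ψ,
    Scheme.IdealSheafData.vanishingIdeal ⟨Jac.thetaLocus (st k X) 0 ψ N, isClosed_closure⟩ = thetaIdeal k N J FJ.P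

include hdim in
/-- **(STR)**, determinant `L₀`. -/
theorem exists_str_of_det (hr : 1 ≤ r)
    {N : X.Modules} (hN : PicF.IsInvertible N) (I : Inp (BunMod.ussOK (st k X) r 0))
    {M : Over (Spec (CommRingCat.of k))} {φ : (BunMod.USS (X ↘ Spec (CommRingCat.of k)) r 0).Hom ⊤ M}
    (hM : ModFun.IsBestApprox ⊤ (BunMod.USS (st k X) r 0) M φ) (hF : FamForm φ N) (hMne : Nonempty (Pt M))
    {Θ : M.left.Modules} (hΘ : BunMod.IsThetaLB (X ↘ Spec (CommRingCat.of k))
      (BunMod.ussOK (X ↘ Spec (CommRingCat.of k)) r 0) φ N Θ)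
    {L₀ : X.Modules} (hL₀ : PicF.IsInvertible L₀) (hL₀deg : Curv2.deg k X L₀ 1 = 0)
    (I' : Inp (BunMod.ussDetOK (st k X) r L₀))
    {M' : Over (Spec (CommRingCat.of k))} {φ' : (BunMod.USSdet (X ↘ Spec (CommRingCat.of k)) r L₀).Hom ⊤ M'}
    (hM' : ModFun.IsBestApprox ⊤ (BunMod.USSdet (st k X) r L₀) M' φ') (hne' : Nonempty (Pt M'))
    (hJ : Jac.IsJacobian (X ↘ Spec (CommRingCat.of k)) ⊤ J ψ) (hR1 : R1 ψ N)
    {ΘJ : J.left.Modules} (hΘJ : Jac.IsThetaLB (X ↘ Spec (CommRingCat.of k)) 0 ψ N ΘJ)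
    {dm : M ⟶ J}
    (hdm : BunMod.IsDetMap (X ↘ Spec (CommRingCat.of k)) (BunMod.ussOK (X ↘ Spec (CommRingCat.of k)) r 0) φ 0 ψ dm) :
    ∃ (S : Groth.Agent.BunMod.K596.Str r dm Θ ΘJ) (e : S.M₀ ≅ M') (i : M' ⟶ M),
      (∀ (T : Over (Spec (CommRingCat.of k))) (E : (PicF.XT (st k X) T).Modules)
        (hE : (BunMod.USSdet (st k X) r L₀).ok T E)
        (hE' : (BunMod.USS (st k X) r 0).ok T E), φ'.app T E trivial hE ≫ i = φ.app T E trivial hE') ∧
      Nonempty (S.A ≅ (Scheme.Modules.pullback e.hom.left).obj ((Scheme.Modules.pullback i.left).obj Θ)) := by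
  obtain ⟨n, rfl⟩ : ∃ n, r = n + 1 := ⟨r - 1, by omega⟩
  obtain ⟨⟨FJ⟩, hJp, hJi⟩ := jac_props (f := st k X) hdim hJ
  have P := props_uss I hM
  have P' := props_ussdet I' hM'
  have hp := P.proper
  have hl : ∀ z z' : Pt M', Lnk M' z z' := K28.Lnk.lnk k X hdim hr hL₀deg φ' P'.surj
  exact str_det hdim FJ hdm hr P.univ inferInstance (nonempty_left hMne) hΘ.1 hΘ.2 hΘJ.1
    (K757.SubDet.picDeg_cst (f := st k X) hdim hL₀ hL₀deg) hM' P'.proper (isIntegral_of_lnk P' hne' hl) hl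
    (K28.B1.ok_ds hdim n _)
    (K28.B1.slice hdim FJ (K28.R1Fam.flf_of_inv hN) φ hF (hR1 FJ) hΘ hΘJ)

include hdim in
/-- **(STR)**, trivial determinant. -/
theorem exists_str_of_det_one (hr : 1 ≤ r)
    {N : X.Modules} (hN : PicF.IsInvertible N) (I : Inp (BunMod.ussOK (st k X) r 0))
    {M : Over (Spec (CommRingCat.of k))} {φ : (BunMod.USS (X ↘ Spec (CommRingCat.of k)) r 0).Hom ⊤ M}
    (hM : ModFun.IsBestApprox ⊤ (BunMod.USS (st k X) r 0) M φ) (hF : FamForm φ N) (hMne : Nonempty (Pt M))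
    {Θ : M.left.Modules} (hΘ : BunMod.IsThetaLB (X ↘ Spec (CommRingCat.of k))
      (BunMod.ussOK (X ↘ Spec (CommRingCat.of k)) r 0) φ N Θ)
    (I' : Inp (BunMod.ussDetOK (st k X) r (Coh.structureModule X)))
    {M' : Over (Spec (CommRingCat.of k))}
    {φ' : (BunMod.USSdet (X ↘ Spec (CommRingCat.of k)) r (Coh.structureModule X)).Hom ⊤ M'}
    (hM' : ModFun.IsBestApprox ⊤ (BunMod.USSdet (st k X) r (Coh.structureModule X)) M' φ') (hne' : Nonempty (Pt M'))
    (hJ : Jac.IsJacobian (X ↘ Spec (CommRingCat.of k)) ⊤ J ψ) (hR1 : R1 ψ N)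
    {ΘJ : J.left.Modules} (hΘJ : Jac.IsThetaLB (X ↘ Spec (CommRingCat.of k)) 0 ψ N ΘJ)
    {dm : M ⟶ J}
    (hdm : BunMod.IsDetMap (X ↘ Spec (CommRingCat.of k)) (BunMod.ussOK (X ↘ Spec (CommRingCat.of k)) r 0) φ 0 ψ dm) :
    ∃ (S : Groth.Agent.BunMod.K596.Str r dm Θ ΘJ) (e : S.M₀ ≅ M') (i : M' ⟶ M),
      (∀ (T : Over (Spec (CommRingCat.of k))) (E : (PicF.XT (st k X) T).Modules)
        (hE : (BunMod.USSdet (st k X) r (Coh.structureModule X)).ok T E)
        (hE' : (BunMod.USS (st k X) r 0).ok T E), φ'.app T E trivial hE ≫ i = φ.app T E trivial hE') ∧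
      Nonempty (S.A ≅ (Scheme.Modules.pullback e.hom.left).obj ((Scheme.Modules.pullback i.left).obj Θ)) ∧
      ∀ (T : Over (Spec (CommRingCat.of k))) (E L : (PicF.XT (X ↘ Spec (CommRingCat.of k)) T).Modules)
        (hE : (BunMod.USSdet (X ↘ Spec (CommRingCat.of k)) r (Coh.structureModule X)).ok T E)
        (hL : (ModFun.PicDeg (X ↘ Spec (CommRingCat.of k)) 0).ok T L)
        (hEL : (BunMod.USS (X ↘ Spec (CommRingCat.of k)) r 0).ok T (CohB1.tensorMod E L)),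
        lift (φ'.app T E trivial hE ≫ e.inv) (ψ.app T L trivial hL) ≫ S.q =
          φ.app T (CohB1.tensorMod E L) trivial hEL := by
  obtain ⟨n, rfl⟩ : ∃ n, r = n + 1 := ⟨r - 1, by omega⟩
  obtain ⟨⟨FJ⟩, hJp, hJi⟩ := jac_props (f := st k X) hdim hJ
  have P := props_uss I hM
  have P' := props_ussdet I' hM'
  have hp := P.proper
  have hO : Curv2.deg k X (Coh.structureModule X) 1 = 0 := by
    rw [Curv2.deg]
    push_cast
    ring
  have hl : ∀ z z' : Pt M', Lnk M' z z' := K28.Lnk.lnk k X hdim hr hO φ' P'.surj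
  exact str_one hdim FJ hdm hr P.univ inferInstance (nonempty_left hMne) hΘ.1 hΘ.2 hΘJ.1 hM' P'.proper
    (isIntegral_of_lnk P' hne' hl) hl (K28.B1.ok_ds hdim n _)
    (K28.B1.slice hdim FJ (K28.R1Fam.flf_of_inv hN) φ hF (hR1 FJ) hΘ hΘJ)

/-- The moduli space of an atlas. -/
theorem exists_best {Q : ∀ T : Over (B0 k), (ModFun.modProb (st k X)).Fam T → Prop}
    (hQp : ∀ {T T' : Over (B0 k)} (g : T' ⟶ T) (E : (PicF.XT (st k X) T).Modules), Q T E → Q T' (K140.BM.pl k X g E))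
    (I : Inp Q) : ∃ (M : Over (B0 k)) (φ : ((ModFun.modProb (st k X)).restrict Q).Hom ⊤ M),
      ModFun.IsBestApprox ⊤ ((ModFun.modProb (st k X)).restrict Q) M φ := by
  obtain ⟨A⟩ := I.atlas
  exact ⟨A.M, _, (K757.Uni.univBest' A hQp).best⟩

include hdim in
/-- **(STR)**, no moduli space for trivial determinant given. -/
theorem exists_str (hr : 1 ≤ r)
    {N : X.Modules} (hN : PicF.IsInvertible N) (I : Inp (BunMod.ussOK (st k X) r 0))
    {M : Over (Spec (CommRingCat.of k))} {φ : (BunMod.USS (X ↘ Spec (CommRingCat.of k)) r 0).Hom ⊤ M}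
    (hM : ModFun.IsBestApprox ⊤ (BunMod.USS (st k X) r 0) M φ) (hF : FamForm φ N) (hMne : Nonempty (Pt M))
    {Θ : M.left.Modules} (hΘ : BunMod.IsThetaLB (X ↘ Spec (CommRingCat.of k))
      (BunMod.ussOK (X ↘ Spec (CommRingCat.of k)) r 0) φ N Θ)
    (I' : Inp (BunMod.ussDetOK (st k X) r (Coh.structureModule X)))
    (hJ : Jac.IsJacobian (X ↘ Spec (CommRingCat.of k)) ⊤ J ψ) (hR1 : R1 ψ N)
    {ΘJ : J.left.Modules} (hΘJ : Jac.IsThetaLB (X ↘ Spec (CommRingCat.of k)) 0 ψ N ΘJ)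
    {dm : M ⟶ J}
    (hdm : BunMod.IsDetMap (X ↘ Spec (CommRingCat.of k)) (BunMod.ussOK (X ↘ Spec (CommRingCat.of k)) r 0) φ 0 ψ dm) :
    Nonempty (Groth.Agent.BunMod.K596.Str r dm Θ ΘJ) := by
  obtain ⟨M', φ', hM'⟩ := exists_best (fun g _ h => ussDetOK_pull g h) I'
  obtain ⟨n, rfl⟩ : ∃ n, r = n + 1 := ⟨r - 1, by omega⟩
  obtain ⟨S, -⟩ := exists_str_of_det_one hdim hr hN I hM hF hMne hΘ I' hM'
    ⟨φ'.app _ _ trivial (K28.B1.ok_ds hdim n _)⟩ hJ hR1 hΘJ hdm
  exact ⟨S⟩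

include hdim in
/-- The restriction of `Θ` to the moduli space with fixed determinant. -/
theorem theta_restrict {N : X.Modules}
    {M : Over (Spec (CommRingCat.of k))} {φ : (BunMod.USS (X ↘ Spec (CommRingCat.of k)) r 0).Hom ⊤ M}
    (hF : FamForm φ N)
    {Θ : M.left.Modules} (hΘ : BunMod.IsThetaLB (X ↘ Spec (CommRingCat.of k))
      (BunMod.ussOK (X ↘ Spec (CommRingCat.of k)) r 0) φ N Θ)
    {L₀ : X.Modules} (hL₀ : PicF.IsInvertible L₀) (hL₀deg : Curv2.deg k X L₀ 1 = 0)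
    (I' : Inp (BunMod.ussDetOK (st k X) r L₀))
    {M' : Over (Spec (CommRingCat.of k))} {φ' : (BunMod.USSdet (X ↘ Spec (CommRingCat.of k)) r L₀).Hom ⊤ M'}
    (hM' : ModFun.IsBestApprox ⊤ (BunMod.USSdet (st k X) r L₀) M' φ') (hF' : FamForm φ' N)
    {Θ' : M'.left.Modules} (hΘ' : BunMod.IsThetaLB (X ↘ Spec (CommRingCat.of k))
      (BunMod.ussDetOK (X ↘ Spec (CommRingCat.of k)) r L₀) φ' N Θ') (i : M' ⟶ M)
    (hi : ∀ (T : Over (Spec (CommRingCat.of k))) (E : (PicF.XT (st k X) T).Modules)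
        (hE : (BunMod.USSdet (st k X) r L₀).ok T E)
        (hE' : (BunMod.USS (st k X) r 0).ok T E), φ'.app T E trivial hE ≫ i = φ.app T E trivial hE') :
    Nonempty ((Scheme.Modules.pullback i.left).obj Θ ≅ Θ') := by
  refine K28.ThetaRes.theta_restrict φ φ' N hF hF' (props_ussdet I' hM').inj i (fun T E hE => ?_) hΘ hΘ'
  have h : (BunMod.USS (st k X) r 0).ok T E := ⟨trivial, K757.SubDet.ussOK_of_det hdim hL₀ hL₀deg hE.2⟩
  exact ⟨h, hi T E hE h⟩

end K28.Final
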