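import Groth.Agent.BunMod.K28.Final
import Groth.Agent.BunMod.K319.NormM
import Groth.Agent.BunMod.K977.Adm

/-!
# The inputs of the structure theorem

`inp_uss`, `inp_ussdet`: the quotients of the atlases of the moduli problems of semistable bundles are normal.
-/

set_option autoImplicit false
universe u
open CategoryTheory Limits AlgebraicGeometry
open Groth.Agent K140.BM K28.Final

namespace K28.Inputs

variable {k : Type u} [Field k] [IsAlgClosed k] {X : Scheme.{u}} [X.Over (Spec (CommRingCat.of k))]
  [IsProper (X ↘ Spec (CommRingCat.of k))] [Smooth (X ↘ Spec (CommRingCat.of k))]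
  (hdim : topologicalKrullDim ↥X = 1)

include hdim

theorem inp_uss {r : ℕ} (h : Nonempty (AtlasC k X (BunMod.ussOK (st k X) r 0))) : Inp (BunMod.ussOK (st k X) r 0) := by
  refine ⟨h, fun A => ?_⟩
  have := K977.Adm.smooth_atlas k X hdim A
  exact K319.NormM.of_smooth A

theorem inp_ussdet [CharZero k] {r : ℕ} (hr : 1 ≤ r) {L : X.Modules} (hL : PicF.IsInvertible L)
    (h : Nonempty (AtlasC k X (BunMod.ussDetOK (st k X) r L))) : Inp (BunMod.ussDetOK (st k X) r L) := by
  refine ⟨h, fun A => ?_⟩
  have := K977.Adm.smooth_atlas_det k X hdim hr L hL A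
  exact K319.NormM.of_smooth A

end K28.Inputs
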