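import Groth.Agent.BunMod.K822.XTD
import Groth.Agent.BunMod.K757.TwistUSS
import Groth.Agent.ASBun.K792.EndLine
import Mathlib.RingTheory.DualNumber

/-!
# First order deformations of line bundles come from the Jacobian

`hasLift`: for the universal line bundle `P` on `X × J`, a point `z : Spec k ⟶ J` and a line bundle `M` of degree `0` on
`X[ε]` with `ρ : M|_X ≅ z^* P` there are `v : Spec k[ε] ⟶ J` over `z` and `φ : v^* P ≅ M` compatible with `ρ`.
-/

set_option autoImplicit false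
universe u

open CategoryTheory CategoryTheory.Limits AlgebraicGeometry TopologicalSpace Opposite
open scoped MonObj

namespace K28.VersJ

open Groth.Agent Groth.Agent.Fdesc.LocGen Groth.Agent.Picfga.LineHom
open Groth.Agent.LoccohB
open Groth.Agent.LoccohB.HHmap (smulHom smulHom_comp smulHom_app)
open K140.BM K822.Eps K822.XTD K757.TwistUSS

/-- Automorphisms of invertible modules. -/
theorem exists_unit {X : Scheme.{u}} {L : X.Modules} (hL : PicF.IsInvertible L) (a : L ≅ L) :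
    ∃ r r' : Γ(X, ⊤), r * r' = 1 ∧ a.hom = smulHom L r := by
  have key : ∀ φ : L ⟶ L, ∃ r : Γ(X, ⊤), φ = smulHom L r := fun φ => by
    obtain ⟨r, rfl⟩ := K792.EndLine.exists_eq_smul hL φ
    exact ⟨r, rfl⟩
  obtain ⟨r, hr⟩ := key a.hom
  obtain ⟨r', hr'⟩ := key a.inv
  refine ⟨r, r', ?_, hr⟩
  have h1 : smulHom L r ≫ smulHom L r' = 𝟙 L := by rw [← hr, ← hr', a.hom_inv_id]
  rw [isInvertible_iff] at hL
  choose U e hxU he using hL
  refine ores_ext U (fun _ => le_top) (fun x _ => Opens.mem_iSup.2 ⟨x, hxU x⟩) fun x => (he x).ext ?_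
  have h2 : GlueHom.resO (le_top : U x ≤ ⊤) r' • (GlueHom.resO (le_top : U x ≤ ⊤) r • e x) = e x :=
    congrArg (fun φ : L ⟶ L => φ.app (U x) (e x)) h1
  rw [smul_smul, mul_comm, ← map_mul] at h2
  rw [map_one, one_smul]
  exact h2

theorem smulHom_one {X : Scheme.{u}} (L : X.Modules) : smulHom L (1 : Γ(X, ⊤)) = 𝟙 L := by
  apply Scheme.Modules.hom_ext
  intro V
  ext s
  change GlueHom.resO (le_top : V ≤ ⊤) (1 : Γ(X, ⊤)) • s = s
  rw [map_one, one_smul]

theorem smulHom_smulHom {X : Scheme.{u}} (L : X.Modules) (r s : Γ(X, ⊤)) :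
    smulHom L r ≫ smulHom L s = smulHom L (s * r) := by
  apply Scheme.Modules.hom_ext
  intro V
  ext m
  change GlueHom.resO (le_top : V ≤ ⊤) s • (GlueHom.resO (le_top : V ≤ ⊤) r • m) = GlueHom.resO (le_top : V ≤ ⊤) (s * r) • m
  rw [smul_smul, map_mul]

variable {k : Type u} [Field k] {X : Scheme.{u}} [X.Over (Spec (CommRingCat.of k))]
  {J : Over (Spec (CommRingCat.of k))} [GrpObj J] {ψ : (ModFun.PicDeg (st k X) 0).Hom ⊤ J}
  (FJ : FineJ (st k X) J ψ)

/-- Identified families over a local test scheme are isomorphic. -/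
theorem iso_of_r_local {R : Type u} [CommRing R] [IsLocalRing R] {s : Spec (CommRingCat.of R) ⟶ B0 k}
    {E E' : (PicF.XT (st k X) (Over.mk s)).Modules} (h : (ModFun.modProb (st k X)).r (Over.mk s) E E') :
    Nonempty (E ≅ E') := by
  obtain ⟨B, hB, ⟨e⟩⟩ := h
  have h1 := Grpsch.PicGrp.pic_spec_local R (Grpsch.PicGrp.mk (X := Spec (CommRingCat.of R)) B hB)
  rw [Grpsch.PicGrp.mk_eq_one_iff] at h1
  obtain ⟨e1⟩ := h1
  obtain ⟨e2⟩ := K757.Fam.pull_congr (PicF.XTproj (st k X) (Over.mk s)) ⟨e1⟩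
  obtain ⟨e3⟩ := K757.Fam.pull_unit (PicF.XTproj (st k X) (Over.mk s))
  obtain ⟨e4⟩ := K757.Fam.tens_congr ⟨Iso.refl E⟩ ⟨e2 ≪≫ e3⟩
  obtain ⟨e5⟩ := K757.Fam.tens_unit E
  exact ⟨(e ≪≫ e4 ≪≫ e5).symm⟩

theorem hasLift (z : T0 k ⟶ J) (M : (PicF.XT (st k X) (Te k)).Modules)
    (hM : (ModFun.PicDeg (st k X) 0).ok (Te k) M)
    (ρ : (Scheme.Modules.pullback (dt k X).i).obj M ≅ pl k X z FJ.P) :
    ∃ (v : Te k ⟶ J) (hv : iT k ≫ v = z) (φ : pl k X v FJ.P ≅ M),
      (Scheme.Modules.pullback (dt k X).i).map φ.hom ≫ ρ.hom = (rv hv FJ.P).hom := by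
  have hv : iT k ≫ ψ.app (Te k) M trivial hM = z := by
    have h1 := K757.Geo.picDeg_pull (iT k) hM
    rw [← ψ.natural (iT k) M trivial trivial hM h1, ← FJ.psi_at z (FJ.ok_at z)]
    exact ψ.resp _ _ trivial _ _ (K757.Fam.r_of_iso _ ⟨ρ⟩)
  obtain ⟨φ₀⟩ : Nonempty (pl k X (ψ.app (Te k) M trivial hM) FJ.P ≅ M) := iso_of_r_local (FJ.fine (Te k) M hM)
  have hG : PicF.IsInvertible (pl k X z FJ.P) := FJ.inv_at z
  obtain ⟨r, r', hrr, hr⟩ := exists_unit hG ((rv hv FJ.P).symm ≪≫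
    (Scheme.Modules.pullback (dt k X).i).mapIso φ₀ ≪≫ ρ)
  have hu : (dt k X).q.appTop r' * (dt k X).q.appTop r = 1 := by
    rw [← map_mul, mul_comm, hrr, map_one]
  have hu' : (dt k X).q.appTop r * (dt k X).q.appTop r' = 1 := by
    rw [← map_mul, hrr, map_one]
  let P' := pl k X (ψ.app (Te k) M trivial hM) FJ.P
  let σ : P' ≅ P' := ⟨smulHom P' ((dt k X).q.appTop r'), smulHom P' ((dt k X).q.appTop r),
    by rw [smulHom_smulHom, hu', smulHom_one], by rw [smulHom_smulHom, hu, smulHom_one]⟩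
  refine ⟨ψ.app (Te k) M trivial hM, hv, σ ≪≫ φ₀, ?_⟩
  have h1 : (Scheme.Modules.pullback (dt k X).i).map φ₀.hom ≫ ρ.hom =
      (rv hv FJ.P).hom ≫ smulHom (pl k X z FJ.P) r := by
    rw [← hr]
    simp
  have h2 : (dt k X).i.appTop ((dt k X).q.appTop r') = r' := by
    have h3 := congrArg (fun g => Scheme.Hom.appTop g r') (dt k X).iq
    simpa using h3
  have h4 : (Scheme.Modules.pullback (dt k X).i).map (σ ≪≫ φ₀).hom ≫ ρ.hom =
      (Scheme.Modules.pullback (dt k X).i).map σ.hom ≫ (Scheme.Modules.pullback (dt k X).i).map φ₀.hom ≫ ρ.hom := by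
    rw [Iso.trans_hom, Functor.map_comp, Category.assoc]
  have h5 : (Scheme.Modules.pullback (dt k X).i).map σ.hom =
      smulHom ((Scheme.Modules.pullback (dt k X).i).obj P') r' := by
    rw [← h2]
    exact pullback_map_smulHom (dt k X).i P' ((dt k X).q.appTop r')
  rw [h4, h1, h5, ← Category.assoc, smulHom_comp, Category.assoc, smulHom_smulHom, hrr, smulHom_one, Category.comp_id]

end K28.VersJ
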