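import Groth.Agent.BunMod.K28.R1Fam
import Groth.Agent.BunMod.K28.VersJ
import Groth.Agent.BunMod.K562.PtMat
import Groth.Agent.BunMod.K54.Exists
import Groth.Agent.BunMod.K356.Seq
import Groth.Agent.BunMod.K319.SumFam

/-!
# The theta ideal of the universal line bundle on the Jacobian is radical

* `adm`: admissible first order deformations of line bundles of degree `0`;
* `rad`: the theta ideal of the universal line bundle is radical, from local determinantal presentations;
* `rad'`: the theta ideal of the universal line bundle is radical and effective Cartier;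
* `main_of_supp`: the ideal of the theta divisor is the theta ideal of the universal line bundle.
-/

set_option autoImplicit false
universe u

open CategoryTheory CategoryTheory.Limits AlgebraicGeometry TopologicalSpace Opposite
open scoped MonObj

namespace K28.R1

open Groth.Agent K140.BM K757.TwistUSS K822.XTD K54.DP K54.UB K54.FamSec K54.GenPull K54.TwExact

variable {k : Type u} [Field k] {X : Scheme.{u}} [X.Over (Spec (CommRingCat.of k))]
  [IsProper (X ↘ Spec (CommRingCat.of k))] [Smooth (X ↘ Spec (CommRingCat.of k))]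
  [GeometricallyConnected (X ↘ Spec (CommRingCat.of k))] (hdim : topologicalKrullDim X = 1)

include hdim in
theorem adm [IsIntegral X] {E₀ N₀ : (PicF.XT (st k X) (T0 k)).Modules} (hE : (ModFun.PicDeg (st k X) 0).ok (T0 k) E₀)
    (hN : PicF.IsInvertible N₀) : K562.AdmExt.Adm (fun T => (ModFun.PicDeg (st k X) 0).ok T) E₀ N₀ := by
  intro s hs β
  obtain ⟨G, f, g, w, hS, hSN, hδ, hQ⟩ :=
    K562.AdmExt.uss hdim.le le_rfl ((K319.SumFam.ussOK_one_iff hdim).2 hE) hN s hs β
  exact ⟨G, f, g, w, hS, hSN, hδ, (K319.SumFam.ussOK_one_iff hdim).1 hQ⟩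

/-- Local determinantal presentations. -/
def LocPres (S : ShortComplex X.Modules) (T : Over (B0 k)) (E : (PicF.XT (st k X) T).Modules) : Prop :=
  ∀ t : T.left, ∃ (U : T.left.Opens) (_ : t ∈ U) (_ : IsAffineOpen U), Nonempty (DetPres S (opn T U) (pl k X (opi T U) E))

variable {J : Over (Spec (CommRingCat.of k))} [GrpObj J] {ψ : (ModFun.PicDeg (st k X) 0).Hom ⊤ J}
  (FJ : FineJ (st k X) J ψ)

include hdim in
/-- **The theta ideal of the universal line bundle is radical and effective Cartier.** -/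
theorem rad [IsAlgClosed k] [IsIntegral X] [Smooth J.hom] {S : ShortComplex X.Modules} (hS : S.ShortExact)
    (h1 : PicF.IsInvertible S.X₁) (h2 : FlatMod.IsFinLocFree S.X₂) (h3 : CohB1.IsFP S.X₃)
    (hv : GeomTw FJ.P S.X₂) (hp : LocPres S J FJ.P) :
    (thetaIdeal k S.X₁ J FJ.P).radical = thetaIdeal k S.X₁ J FJ.P ∧
      BlowUp.IsEffCartierIdeal (thetaIdeal k S.X₁ J FJ.P) := by
  have hf : ∀ {T : Over (B0 k)} {E : (PicF.XT (st k X) T).Modules}, (ModFun.PicDeg (st k X) 0).ok T E →
      FlatMod.IsFinLocFree E := fun h => K28.R1Fam.flf_of_inv (K757.Geo.picDeg_ok_iff.1 h).1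
  refine K562.PtMat.rad (f₁ := S.f) (g₁ := S.g) (w₁ := S.zero) (Q := fun T => (ModFun.PicDeg (st k X) 0).ok T)
    hdim.le hS h1 h2 hf (fun g _ h => K757.Geo.picDeg_pull g h) (fun h hN => adm hdim h hN) FJ.ok
    (K28.VersJ.hasLift FJ) ?_
  intro z
  obtain ⟨U, hz, hU, ⟨D⟩⟩ := hp z
  refine ⟨U, hz, hU, D.n, D.e, D.f, D.d, D.ube, D.ubf, D.hd, ?_⟩
  have : IsAffine (opn J U).left := hU
  exact D.ideal hdim.le hS (K28.R1Fam.flf_of_inv h1) h2 h3
    (PerfC.PullRestrict.isFinLocFree_pullback _ (hf FJ.ok)) (hv.pull _)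

open Groth.Agent.BunMod.K356.Seq

section Main

variable [IsAlgClosed k]

omit [IsAlgClosed k] in
/-- Coherent modules on locally noetherian schemes are of finite presentation. -/
theorem isFP_of_isCoh {Y : Scheme.{u}} [IsLocallyNoetherian Y] {M : Y.Modules} (h : Coh.IsCoh M) :
    CohB1.IsFP M := by
  refine Groth.Agent.CohqA.FinSec.isFP_of_finitePresentation h.1 fun x => ?_
  obtain ⟨U, hU, hx, -⟩ := exists_isAffineOpen_mem_and_subset (U := (⊤ : Y.Opens)) (x := x) trivial
  refine ⟨U, hU, hx, ?_⟩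
  have : IsNoetherianRing Γ(Y, U) := IsLocallyNoetherian.component_noetherian ⟨U, hU⟩
  have := Groth.Agent.CohqA.FinSec.finite_sections hU h.1 h.2
  exact Module.finitePresentation_of_finite _ _

include hdim in
theorem geomTw {S : ShortComplex X.Modules} (h : SeqOK k S) {r : ℕ} {T : Over (B0 k)}
    {E : (PicF.XT (st k X) T).Modules} (hE : BunMod.ussOK (st k X) r 0 T E) : GeomTw E S.X₂ :=
  fun _ _ _ _ g => h.h1₂ hdim (K319.SumFam.ssb_pl hE g)

include hdim in
theorem geomChi {S : ShortComplex X.Modules} (h : SeqOK k S) {r : ℕ} {T : Over (B0 k)}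
    {E : (PicF.XT (st k X) T).Modules} (hE : BunMod.ussOK (st k X) r 0 T E) : GeomChi E S.X₁ :=
  fun _ _ _ _ g => h.chi₁ hdim (K319.SumFam.ssb_pl hE g)

include hdim in
/-- **The theta ideal of the universal line bundle is radical and effective Cartier.** -/
theorem rad' [GeometricallyIntegral J.hom] [LocallyOfFiniteType J.hom] {N : X.Modules} (hN : PicF.IsInvertible N)
    (hd : Curv2.deg k X N 1 = (Curv2.genus k X : ℤ) - 1) :
    (thetaIdeal k N J FJ.P).radical = thetaIdeal k N J FJ.P ∧ BlowUp.IsEffCartierIdeal (thetaIdeal k N J FJ.P) := by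
  have : IsIntegral X := K705.Setup.isIntegral_of_geomConn k X
  have hs : Smooth J.hom := by
    let _ : GrpObj (Over.mk J.hom) := inferInstanceAs (GrpObj J)
    exact smooth_of_grpObj J.hom
  obtain ⟨S, rfl, h⟩ := exists_seq hdim hN hd
  have hu := (K319.SumFam.ussOK_one_iff hdim).2 FJ.ok
  have h1 := K28.R1Fam.flf_of_inv h.inv₁
  have h2 := K28.R1Fam.flf_of_inv h.inv₂
  have hL : IsLocallyNoetherian X := LocallyOfFiniteType.isLocallyNoetherian (X ↘ Spec (CommRingCat.of k))
  have h3 : CohB1.IsFP S.X₃ := isFP_of_isCoh h.coh₃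
  refine rad hdim FJ h.ex h.inv₁ h2 h3 (geomTw hdim h hu) fun t => ?_
  obtain ⟨U, hU, -, D, ht, -⟩ := exists_local hdim.le h.ex h1 h2 h3
    (K707.Base.isFinLocFree_of_rank hu.1) (geomTw hdim h hu) (geomChi hdim h hu) t
  exact ⟨U, ht, hU, ⟨D⟩⟩

include hdim in
/-- **R1** from the description of the support. -/
theorem main_of_supp [GeometricallyIntegral J.hom] [LocallyOfFiniteType J.hom] {N : X.Modules}
    (hN : PicF.IsInvertible N) (hd : Curv2.deg k X N 1 = (Curv2.genus k X : ℤ) - 1) (hs : K28.R1Fam.SuppAt FJ N) :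
    Scheme.IdealSheafData.vanishingIdeal ⟨Jac.thetaLocus (st k X) 0 ψ N, isClosed_closure⟩ =
      thetaIdeal k N J FJ.P :=
  K28.R1Fam.vanishingIdeal_eq FJ hs (rad' hdim FJ hN hd).1

end Main

end K28.R1
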