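import Groth.Agent.BunMod.K28.R1
import Groth.Agent.BunMod.K28.Final
import Groth.Agent.BunMod.K54.Supp

/-!
# The ideal of the theta divisor of the Jacobian

* `suppAt`: the support of the theta ideal of the universal line bundle;
* `main`: the ideal of the theta locus of the Jacobian is the theta ideal of the universal line bundle;
* `isThetaJ`: it pulls back to the theta ideal of every family of line bundles.
-/

set_option autoImplicit false
universe u

open CategoryTheory CategoryTheory.Limits AlgebraicGeometry TopologicalSpace Opposite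
open scoped MonObj

namespace K28.R1Main

open Groth.Agent K140.BM K757.TwistUSS K54.TwExact K54.DP

variable {k : Type u} [Field k] [IsAlgClosed k] {X : Scheme.{u}} [X.Over (Spec (CommRingCat.of k))]
  [IsProper (X ↘ Spec (CommRingCat.of k))] [Smooth (X ↘ Spec (CommRingCat.of k))]
  [GeometricallyConnected (X ↘ Spec (CommRingCat.of k))] (hdim : topologicalKrullDim X = 1)
  {J : Over (Spec (CommRingCat.of k))} [GrpObj J] {ψ : (ModFun.PicDeg (st k X) 0).Hom ⊤ J}

include hdim in
/-- The support of the theta ideal of the universal line bundle. -/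
theorem suppAt (FJ : FineJ (st k X) J ψ) {N : X.Modules} (hN : PicF.IsInvertible N)
    (hd : Curv2.deg k X N 1 = (Curv2.genus k X : ℤ) - 1) : K28.R1Fam.SuppAt FJ N := by
  obtain ⟨S, rfl, h⟩ := Groth.Agent.BunMod.K356.Seq.exists_seq hdim hN hd
  have hu := (K319.SumFam.ussOK_one_iff hdim).2 FJ.ok
  intro Ω _ _ s c p
  exact K54.Supp.mem_support_iff hdim.le (K28.R1Fam.flf_of_inv h.inv₁) (K707.Base.isFinLocFree_of_rank hu.1) s c p
    (K28.R1.geomChi hdim h hu Ω s c)

include hdim in
/-- **R1.** -/
theorem main (hJ : Jac.IsJacobian (st k X) ⊤ J ψ) {N : X.Modules} (hN : PicF.IsInvertible N)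
    (hd : Curv2.deg k X N 1 = (Curv2.genus k X : ℤ) - 1) : K28.Final.R1 ψ N := by
  intro FJ
  obtain ⟨-, hp, hgi⟩ := K757.Root.jac_props (f := st k X) hdim hJ
  exact K28.R1.main_of_supp hdim FJ hN hd (suppAt hdim FJ hN hd)

include hdim in
/-- **R1** for families. -/
theorem isThetaJ (hJ : Jac.IsJacobian (st k X) ⊤ J ψ) {N : X.Modules} (hN : PicF.IsInvertible N)
    (hd : Curv2.deg k X N 1 = (Curv2.genus k X : ℤ) - 1) (T : Over (B0 k)) (L : (PicF.XT (st k X) T).Modules)
    (hL : (ModFun.PicDeg (st k X) 0).ok T L) :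
    (Scheme.IdealSheafData.vanishingIdeal ⟨Jac.thetaLocus (st k X) 0 ψ N, isClosed_closure⟩).comap
      (ψ.app T L trivial hL).left = thetaIdeal k N T L := by
  obtain ⟨⟨FJ⟩, -⟩ := K757.Root.jac_props (f := st k X) hdim hJ
  rw [main hdim hJ hN hd FJ, K28.R1Fam.comap_psi FJ hdim.le (K28.R1Fam.flf_of_inv hN) hL]

end K28.R1Main
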