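import Groth.Agent.BunMod.K28.RowsOf
import Groth.Agent.BunMod.K28.R1Main
import Groth.Agent.BunMod.K356.ThetaBest
import Groth.Agent.BunMod.K562.ThetaAt
import Groth.Agent.BunMod.K140.Atlas

/-!
# The structure theorem in the form used by the rows

`X` a curve of genus `g ≥ 2` over an algebraically closed field of characteristic zero, `M` the moduli space of semistable
bundles of rank `r ≥ 2` and degree `0`, `Θ` the theta line bundle, `J` the Jacobian.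

* `common`: the common inputs;
* `exists_str`, `exists_str_of_det`, `exists_str_of_det_one`.
-/

set_option autoImplicit false
universe u
open CategoryTheory Limits MonoidalCategory CartesianMonoidalCategory MonObj AlgebraicGeometry
open Groth.Agent Groth.Agent.BunMod.K596 K140.BM K28.Final K28.RowsOf

namespace K28.Rows

variable (k : Type u) [Field k] [IsAlgClosed k]
  (X : Scheme.{u}) [X.Over (Spec (CommRingCat.of k))]
  [IsProper (X ↘ Spec (CommRingCat.of k))] [Smooth (X ↘ Spec (CommRingCat.of k))]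
  [GeometricallyConnected (X ↘ Spec (CommRingCat.of k))] (hdim : topologicalKrullDim ↥X = 1) [CharZero k]

include hdim

/-- The common inputs. -/
theorem common (g : ℕ) (hg : Curv2.genus k X = g) (hg2 : 2 ≤ g) (r : ℕ) (hr : 2 ≤ r)
    (N : X.Modules) (hN : PicF.IsInvertible N) (hNdeg : Curv2.deg k X N 1 = (g : ℤ) - 1) : Common k X r N := by
  subst hg
  have hr1 : 1 ≤ r := by omega
  refine ⟨exists_atlasC hdim hr1, fun L hL hLd => exists_atlasC_det hdim hr1 hL hLd, fun M φ hM => ?_,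
    fun L hL hLd M φ hM => ?_⟩
  · exact (Groth.Agent.BunMod.K356.ThetaBest.uss hdim hN hNdeg hr1 (fun A hsm hl =>
      (K562.ThetaAt.facts_uss hdim hg2 hN hNdeg hr1 A hl).dens) hM).fam
  · exact (Groth.Agent.BunMod.K356.ThetaBest.ussdet hdim hN hNdeg hr hL hLd (fun A hsm hl =>
      (K562.ThetaAt.facts_ussDet hdim hg2 hN hNdeg hr hL hLd A hl).dens) hM).fam

/-- SO1 (no `M'` given). -/
theorem exists_str (g : ℕ) (hg : Curv2.genus k X = g) (hg2 : 2 ≤ g) (r : ℕ) (hr : 2 ≤ r)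
    (N : X.Modules) (hN : PicF.IsInvertible N) (hNdeg : Curv2.deg k X N 1 = (g : ℤ) - 1)
    (M : Over (Spec (CommRingCat.of k))) (φ : (BunMod.USS (X ↘ Spec (CommRingCat.of k)) r 0).Hom ⊤ M)
    (hM : BunMod.IsModSS (X ↘ Spec (CommRingCat.of k)) ⊤ r 0 M φ)
    (hne : ∀ (Ω : Type u) [Field Ω] [IsAlgClosed Ω] (t : Spec (CommRingCat.of Ω) ⟶ Spec (CommRingCat.of k)),
      Nonempty (Over.mk t ⟶ M))
    (Θ : M.left.Modules) (hΘ : BunMod.IsThetaLB (X ↘ Spec (CommRingCat.of k))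
      (BunMod.ussOK (X ↘ Spec (CommRingCat.of k)) r 0) φ N Θ)
    (J : Over (Spec (CommRingCat.of k))) [GrpObj J] [IsCommMonObj J]
    (ψ : (ModFun.PicDeg (X ↘ Spec (CommRingCat.of k)) 0).Hom ⊤ J)
    (hJ : Jac.IsJacobian (X ↘ Spec (CommRingCat.of k)) ⊤ J ψ)
    (ΘJ : J.left.Modules) (hΘJ : Jac.IsThetaLB (X ↘ Spec (CommRingCat.of k)) 0 ψ N ΘJ)
    (dm : M ⟶ J)
    (hdm : BunMod.IsDetMap (X ↘ Spec (CommRingCat.of k)) (BunMod.ussOK (X ↘ Spec (CommRingCat.of k)) r 0) φ 0 ψ dm) :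
    Nonempty (Str r dm Θ ΘJ) :=
  K28.RowsOf.exists_str k X hdim r hr N hN (common k X hdim g hg hg2 r hr N hN hNdeg) M φ hM hne Θ hΘ J ψ hJ
    (K28.R1Main.main hdim hJ hN (by rw [hg]; exact hNdeg)) ΘJ hΘJ dm hdm

/-- SO2 (`M'` given with an arbitrary determinant `L₀` of degree `0`). -/
theorem exists_str_of_det (g : ℕ) (hg : Curv2.genus k X = g) (hg2 : 2 ≤ g) (r : ℕ) (hr : 2 ≤ r)
    (N : X.Modules) (hN : PicF.IsInvertible N) (hNdeg : Curv2.deg k X N 1 = (g : ℤ) - 1)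
    (M : Over (Spec (CommRingCat.of k))) (φ : (BunMod.USS (X ↘ Spec (CommRingCat.of k)) r 0).Hom ⊤ M)
    (hM : BunMod.IsModSS (X ↘ Spec (CommRingCat.of k)) ⊤ r 0 M φ)
    (hne : ∀ (Ω : Type u) [Field Ω] [IsAlgClosed Ω] (t : Spec (CommRingCat.of Ω) ⟶ Spec (CommRingCat.of k)),
      Nonempty (Over.mk t ⟶ M))
    (Θ : M.left.Modules) (hΘ : BunMod.IsThetaLB (X ↘ Spec (CommRingCat.of k))
      (BunMod.ussOK (X ↘ Spec (CommRingCat.of k)) r 0) φ N Θ)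
    (L₀ : X.Modules) (hL₀ : PicF.IsInvertible L₀) (hL₀deg : Curv2.deg k X L₀ 1 = 0)
    (M' : Over (Spec (CommRingCat.of k))) (φ' : (BunMod.USSdet (X ↘ Spec (CommRingCat.of k)) r L₀).Hom ⊤ M')
    (hM' : BunMod.IsModSSdet (X ↘ Spec (CommRingCat.of k)) ⊤ r L₀ M' φ')
    (hne' : ∀ (Ω : Type u) [Field Ω] [IsAlgClosed Ω] (t : Spec (CommRingCat.of Ω) ⟶ Spec (CommRingCat.of k)),
      Nonempty (Over.mk t ⟶ M'))
    (Θ' : M'.left.Modules) (hΘ' : BunMod.IsThetaLB (X ↘ Spec (CommRingCat.of k))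
      (BunMod.ussDetOK (X ↘ Spec (CommRingCat.of k)) r L₀) φ' N Θ')
    (J : Over (Spec (CommRingCat.of k))) [GrpObj J] [IsCommMonObj J]
    (ψ : (ModFun.PicDeg (X ↘ Spec (CommRingCat.of k)) 0).Hom ⊤ J)
    (hJ : Jac.IsJacobian (X ↘ Spec (CommRingCat.of k)) ⊤ J ψ)
    (ΘJ : J.left.Modules) (hΘJ : Jac.IsThetaLB (X ↘ Spec (CommRingCat.of k)) 0 ψ N ΘJ)
    (dm : M ⟶ J)
    (hdm : BunMod.IsDetMap (X ↘ Spec (CommRingCat.of k)) (BunMod.ussOK (X ↘ Spec (CommRingCat.of k)) r 0) φ 0 ψ dm) :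
    ∃ (S : Str r dm Θ ΘJ) (e : S.M₀ ≅ M'), Nonempty (S.A ≅ (Scheme.Modules.pullback e.hom.left).obj Θ') :=
  K28.RowsOf.exists_str_of_det k X hdim r hr N hN (common k X hdim g hg hg2 r hr N hN hNdeg) M φ hM hne Θ hΘ L₀ hL₀
    hL₀deg M' φ' hM' hne' Θ' hΘ' J ψ hJ (K28.R1Main.main hdim hJ hN (by rw [hg]; exact hNdeg)) ΘJ hΘJ dm hdm

/-- SO3 (trivial determinant, with the formula for `q`). -/
theorem exists_str_of_det_one (g : ℕ) (hg : Curv2.genus k X = g) (hg2 : 2 ≤ g) (r : ℕ) (hr : 2 ≤ r)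
    (N : X.Modules) (hN : PicF.IsInvertible N) (hNdeg : Curv2.deg k X N 1 = (g : ℤ) - 1)
    (M : Over (Spec (CommRingCat.of k))) (φ : (BunMod.USS (X ↘ Spec (CommRingCat.of k)) r 0).Hom ⊤ M)
    (hM : BunMod.IsModSS (X ↘ Spec (CommRingCat.of k)) ⊤ r 0 M φ)
    (hne : ∀ (Ω : Type u) [Field Ω] [IsAlgClosed Ω] (t : Spec (CommRingCat.of Ω) ⟶ Spec (CommRingCat.of k)),
      Nonempty (Over.mk t ⟶ M))
    (Θ : M.left.Modules) (hΘ : BunMod.IsThetaLB (X ↘ Spec (CommRingCat.of k))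
      (BunMod.ussOK (X ↘ Spec (CommRingCat.of k)) r 0) φ N Θ)
    (M' : Over (Spec (CommRingCat.of k)))
    (φ' : (BunMod.USSdet (X ↘ Spec (CommRingCat.of k)) r (Coh.structureModule X)).Hom ⊤ M')
    (hM' : BunMod.IsModSSdet (X ↘ Spec (CommRingCat.of k)) ⊤ r (Coh.structureModule X) M' φ')
    (hne' : ∀ (Ω : Type u) [Field Ω] [IsAlgClosed Ω] (t : Spec (CommRingCat.of Ω) ⟶ Spec (CommRingCat.of k)),
      Nonempty (Over.mk t ⟶ M'))
    (Θ' : M'.left.Modules) (hΘ' : BunMod.IsThetaLB (X ↘ Spec (CommRingCat.of k))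
      (BunMod.ussDetOK (X ↘ Spec (CommRingCat.of k)) r (Coh.structureModule X)) φ' N Θ')
    (J : Over (Spec (CommRingCat.of k))) [GrpObj J] [IsCommMonObj J]
    (ψ : (ModFun.PicDeg (X ↘ Spec (CommRingCat.of k)) 0).Hom ⊤ J)
    (hJ : Jac.IsJacobian (X ↘ Spec (CommRingCat.of k)) ⊤ J ψ)
    (ΘJ : J.left.Modules) (hΘJ : Jac.IsThetaLB (X ↘ Spec (CommRingCat.of k)) 0 ψ N ΘJ)
    (dm : M ⟶ J)
    (hdm : BunMod.IsDetMap (X ↘ Spec (CommRingCat.of k)) (BunMod.ussOK (X ↘ Spec (CommRingCat.of k)) r 0) φ 0 ψ dm) :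
    ∃ (S : Str r dm Θ ΘJ) (e : S.M₀ ≅ M'), Nonempty (S.A ≅ (Scheme.Modules.pullback e.hom.left).obj Θ') ∧
      ∀ (T : Over (Spec (CommRingCat.of k))) (E L : (PicF.XT (X ↘ Spec (CommRingCat.of k)) T).Modules)
        (hE : (BunMod.USSdet (X ↘ Spec (CommRingCat.of k)) r (Coh.structureModule X)).ok T E)
        (hL : (ModFun.PicDeg (X ↘ Spec (CommRingCat.of k)) 0).ok T L)
        (hEL : (BunMod.USS (X ↘ Spec (CommRingCat.of k)) r 0).ok T (CohB1.tensorMod E L)),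
        lift (φ'.app T E trivial hE ≫ e.inv) (ψ.app T L trivial hL) ≫ S.q =
          φ.app T (CohB1.tensorMod E L) trivial hEL :=
  K28.RowsOf.exists_str_of_det_one k X hdim r hr N hN (common k X hdim g hg hg2 r hr N hN hNdeg) M φ hM hne Θ hΘ M' φ'
    hM' hne' Θ' hΘ' J ψ hJ (K28.R1Main.main hdim hJ hN (by rw [hg]; exact hNdeg)) ΘJ hΘJ dm hdm

end K28.Rows
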