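import Groth.Agent.BunMod.K28.Inputs

/-!
# The structure theorem in the form used by the rows

`Common k X r N`: existence of the atlases, theta ideals of families; `exists_str`, `exists_str_of_det`,
`exists_str_of_det_one` from `Common` and `R1`.
-/

set_option autoImplicit false
set_option linter.unusedSectionVars false
universe u
open CategoryTheory Limits MonoidalCategory CartesianMonoidalCategory MonObj AlgebraicGeometry
open Groth.Agent Groth.Agent.BunMod.K596 K140.BM K28.Final K28.Inputs K28.Data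

namespace K28.RowsOf

variable (k : Type u) [Field k] [IsAlgClosed k] (X : Scheme.{u}) [X.Over (Spec (CommRingCat.of k))]

/-- The common inputs. -/
structure Common (r : ℕ) (N : X.Modules) : Prop where
  atlas : Nonempty (AtlasC k X (BunMod.ussOK (st k X) r 0))
  atlas_det : ∀ L : X.Modules, PicF.IsInvertible L → Curv2.deg k X L 1 = 0 →
    Nonempty (AtlasC k X (BunMod.ussDetOK (st k X) r L))
  theta : ∀ (M : Over (B0 k)) (φ : (BunMod.USS (st k X) r 0).Hom ⊤ M),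
    ModFun.IsBestApprox ⊤ (BunMod.USS (st k X) r 0) M φ → FamForm φ N
  theta_det : ∀ L : X.Modules, PicF.IsInvertible L → Curv2.deg k X L 1 = 0 →
    ∀ (M : Over (B0 k)) (φ : (BunMod.USSdet (st k X) r L).Hom ⊤ M),
      ModFun.IsBestApprox ⊤ (BunMod.USSdet (st k X) r L) M φ → FamForm φ N

variable [IsProper (X ↘ Spec (CommRingCat.of k))] [Smooth (X ↘ Spec (CommRingCat.of k))]
  [GeometricallyConnected (X ↘ Spec (CommRingCat.of k))] (hdim : topologicalKrullDim ↥X = 1)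

theorem isInvertible_structure : PicF.IsInvertible (Coh.structureModule X) :=
  Groth.Agent.BunMod.K356.FamForm.isInv_unit X

theorem deg_structure : Curv2.deg k X (Coh.structureModule X) 1 = 0 := by
  rw [Curv2.deg]
  push_cast
  ring

variable [CharZero k]

include hdim

/-- SO1. -/
theorem exists_str (r : ℕ) (hr : 2 ≤ r)
    (N : X.Modules) (hN : PicF.IsInvertible N) (C : Common k X r N)
    (M : Over (Spec (CommRingCat.of k))) (φ : (BunMod.USS (X ↘ Spec (CommRingCat.of k)) r 0).Hom ⊤ M)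
    (hM : BunMod.IsModSS (X ↘ Spec (CommRingCat.of k)) ⊤ r 0 M φ)
    (hne : ∀ (Ω : Type u) [Field Ω] [IsAlgClosed Ω] (t : Spec (CommRingCat.of Ω) ⟶ Spec (CommRingCat.of k)),
      Nonempty (Over.mk t ⟶ M))
    (Θ : M.left.Modules) (hΘ : BunMod.IsThetaLB (X ↘ Spec (CommRingCat.of k))
      (BunMod.ussOK (X ↘ Spec (CommRingCat.of k)) r 0) φ N Θ)
    (J : Over (Spec (CommRingCat.of k))) [GrpObj J] [IsCommMonObj J]
    (ψ : (ModFun.PicDeg (X ↘ Spec (CommRingCat.of k)) 0).Hom ⊤ J)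
    (hJ : Jac.IsJacobian (X ↘ Spec (CommRingCat.of k)) ⊤ J ψ) (hR1 : R1 ψ N)
    (ΘJ : J.left.Modules) (hΘJ : Jac.IsThetaLB (X ↘ Spec (CommRingCat.of k)) 0 ψ N ΘJ)
    (dm : M ⟶ J)
    (hdm : BunMod.IsDetMap (X ↘ Spec (CommRingCat.of k)) (BunMod.ussOK (X ↘ Spec (CommRingCat.of k)) r 0) φ 0 ψ dm) :
    Nonempty (Str r dm Θ ΘJ) :=
  K28.Final.exists_str hdim (by omega) hN (inp_uss hdim C.atlas) hM.2.1
    (C.theta M φ hM.2.1) (hne k (𝟙 _)) hΘ
    (inp_ussdet hdim (by omega) (isInvertible_structure X)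
      (C.atlas_det _ (isInvertible_structure X) (deg_structure k X))) hJ hR1 hΘJ hdm

/-- SO2. -/
theorem exists_str_of_det (r : ℕ) (hr : 2 ≤ r)
    (N : X.Modules) (hN : PicF.IsInvertible N) (C : Common k X r N)
    (M : Over (Spec (CommRingCat.of k))) (φ : (BunMod.USS (X ↘ Spec (CommRingCat.of k)) r 0).Hom ⊤ M)
    (hM : BunMod.IsModSS (X ↘ Spec (CommRingCat.of k)) ⊤ r 0 M φ)
    (hne : ∀ (Ω : Type u) [Field Ω] [IsAlgClosed Ω] (t : Spec (CommRingCat.of Ω) ⟶ Spec (CommRingCat.of k)),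
      Nonempty (Over.mk t ⟶ M))
    (Θ : M.left.Modules) (hΘ : BunMod.IsThetaLB (X ↘ Spec (CommRingCat.of k))
      (BunMod.ussOK (X ↘ Spec (CommRingCat.of k)) r 0) φ N Θ)
    (L₀ : X.Modules) (hL₀ : PicF.IsInvertible L₀) (hL₀deg : Curv2.deg k X L₀ 1 = 0)
    (M' : Over (Spec (CommRingCat.of k))) (φ' : (BunMod.USSdet (X ↘ Spec (CommRingCat.of k)) r L₀).Hom ⊤ M')
    (hM' : BunMod.IsModSSdet (X ↘ Spec (CommRingCat.of k)) ⊤ r L₀ M' φ')
    (hne' : ∀ (Ω : Type u) [Field Ω] [IsAlgClosed Ω] (t : Spec (CommRingCat.of Ω) ⟶ Spec (CommRingCat.of k)),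
      Nonempty (Over.mk t ⟶ M'))
    (Θ' : M'.left.Modules) (hΘ' : BunMod.IsThetaLB (X ↘ Spec (CommRingCat.of k))
      (BunMod.ussDetOK (X ↘ Spec (CommRingCat.of k)) r L₀) φ' N Θ')
    (J : Over (Spec (CommRingCat.of k))) [GrpObj J] [IsCommMonObj J]
    (ψ : (ModFun.PicDeg (X ↘ Spec (CommRingCat.of k)) 0).Hom ⊤ J)
    (hJ : Jac.IsJacobian (X ↘ Spec (CommRingCat.of k)) ⊤ J ψ) (hR1 : R1 ψ N)
    (ΘJ : J.left.Modules) (hΘJ : Jac.IsThetaLB (X ↘ Spec (CommRingCat.of k)) 0 ψ N ΘJ)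
    (dm : M ⟶ J)
    (hdm : BunMod.IsDetMap (X ↘ Spec (CommRingCat.of k)) (BunMod.ussOK (X ↘ Spec (CommRingCat.of k)) r 0) φ 0 ψ dm) :
    ∃ (S : Str r dm Θ ΘJ) (e : S.M₀ ≅ M'), Nonempty (S.A ≅ (Scheme.Modules.pullback e.hom.left).obj Θ') := by
  obtain ⟨S, e, i, hi, ⟨a⟩⟩ := K28.Final.exists_str_of_det hdim (by omega) hN (inp_uss hdim C.atlas) hM.2.1
    (C.theta M φ hM.2.1) (hne k (𝟙 _)) hΘ hL₀ hL₀deg (inp_ussdet hdim (by omega) hL₀ (C.atlas_det _ hL₀ hL₀deg)) hM'.2.1 (hne' k (𝟙 _)) hJ hR1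
    hΘJ hdm
  obtain ⟨b⟩ := K28.Final.theta_restrict hdim (C.theta M φ hM.2.1) hΘ hL₀ hL₀deg
    (inp_ussdet hdim (by omega) hL₀ (C.atlas_det _ hL₀ hL₀deg)) hM'.2.1 (C.theta_det _ hL₀ hL₀deg M' φ' hM'.2.1) hΘ' i hi
  exact ⟨S, e, ⟨a ≪≫ (Scheme.Modules.pullback e.hom.left).mapIso b⟩⟩

/-- SO3. -/
theorem exists_str_of_det_one (r : ℕ) (hr : 2 ≤ r)
    (N : X.Modules) (hN : PicF.IsInvertible N) (C : Common k X r N)
    (M : Over (Spec (CommRingCat.of k))) (φ : (BunMod.USS (X ↘ Spec (CommRingCat.of k)) r 0).Hom ⊤ M)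
    (hM : BunMod.IsModSS (X ↘ Spec (CommRingCat.of k)) ⊤ r 0 M φ)
    (hne : ∀ (Ω : Type u) [Field Ω] [IsAlgClosed Ω] (t : Spec (CommRingCat.of Ω) ⟶ Spec (CommRingCat.of k)),
      Nonempty (Over.mk t ⟶ M))
    (Θ : M.left.Modules) (hΘ : BunMod.IsThetaLB (X ↘ Spec (CommRingCat.of k))
      (BunMod.ussOK (X ↘ Spec (CommRingCat.of k)) r 0) φ N Θ)
    (M' : Over (Spec (CommRingCat.of k)))
    (φ' : (BunMod.USSdet (X ↘ Spec (CommRingCat.of k)) r (Coh.structureModule X)).Hom ⊤ M')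
    (hM' : BunMod.IsModSSdet (X ↘ Spec (CommRingCat.of k)) ⊤ r (Coh.structureModule X) M' φ')
    (hne' : ∀ (Ω : Type u) [Field Ω] [IsAlgClosed Ω] (t : Spec (CommRingCat.of Ω) ⟶ Spec (CommRingCat.of k)),
      Nonempty (Over.mk t ⟶ M'))
    (Θ' : M'.left.Modules) (hΘ' : BunMod.IsThetaLB (X ↘ Spec (CommRingCat.of k))
      (BunMod.ussDetOK (X ↘ Spec (CommRingCat.of k)) r (Coh.structureModule X)) φ' N Θ')
    (J : Over (Spec (CommRingCat.of k))) [GrpObj J] [IsCommMonObj J]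
    (ψ : (ModFun.PicDeg (X ↘ Spec (CommRingCat.of k)) 0).Hom ⊤ J)
    (hJ : Jac.IsJacobian (X ↘ Spec (CommRingCat.of k)) ⊤ J ψ) (hR1 : R1 ψ N)
    (ΘJ : J.left.Modules) (hΘJ : Jac.IsThetaLB (X ↘ Spec (CommRingCat.of k)) 0 ψ N ΘJ)
    (dm : M ⟶ J)
    (hdm : BunMod.IsDetMap (X ↘ Spec (CommRingCat.of k)) (BunMod.ussOK (X ↘ Spec (CommRingCat.of k)) r 0) φ 0 ψ dm) :
    ∃ (S : Str r dm Θ ΘJ) (e : S.M₀ ≅ M'), Nonempty (S.A ≅ (Scheme.Modules.pullback e.hom.left).obj Θ') ∧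
      ∀ (T : Over (Spec (CommRingCat.of k))) (E L : (PicF.XT (X ↘ Spec (CommRingCat.of k)) T).Modules)
        (hE : (BunMod.USSdet (X ↘ Spec (CommRingCat.of k)) r (Coh.structureModule X)).ok T E)
        (hL : (ModFun.PicDeg (X ↘ Spec (CommRingCat.of k)) 0).ok T L)
        (hEL : (BunMod.USS (X ↘ Spec (CommRingCat.of k)) r 0).ok T (CohB1.tensorMod E L)),
        lift (φ'.app T E trivial hE ≫ e.inv) (ψ.app T L trivial hL) ≫ S.q =
          φ.app T (CohB1.tensorMod E L) trivial hEL := by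
  have hO := isInvertible_structure X
  have hd := deg_structure k X
  obtain ⟨S, e, i, hi, ⟨a⟩, hf⟩ := K28.Final.exists_str_of_det_one hdim (by omega) hN (inp_uss hdim C.atlas) hM.2.1
    (C.theta M φ hM.2.1) (hne k (𝟙 _)) hΘ (inp_ussdet hdim (by omega) hO (C.atlas_det _ hO hd)) hM'.2.1 (hne' k (𝟙 _)) hJ hR1
    hΘJ hdm
  obtain ⟨b⟩ := K28.Final.theta_restrict hdim (C.theta M φ hM.2.1) hΘ hO hd
    (inp_ussdet hdim (by omega) hO (C.atlas_det _ hO hd)) hM'.2.1 (C.theta_det _ hO hd M' φ' hM'.2.1) hΘ' i hi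
  exact ⟨S, e, ⟨a ≪≫ (Scheme.Modules.pullback e.hom.left).mapIso b⟩, hf⟩

end K28.RowsOf
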