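import Groth.Agent.BunMod.K28.SOCore
import Groth.Agent.BunMod.K757.Root

/-!
# The structure theorem for the moduli space of semistable bundles

`Slice FJ φ E₁ Θ ΘJ`: the line bundle `Θ` pulls back along `ξ ↦ E₁ ⊗ ξ` to `ΘJ^r`.

* `str_det`: (STR) with `M₀ = M'` the moduli space of bundles with determinant `L₀` (any best approximation), `A = i^*Θ`.
* `str_one`: the same for trivial determinant, with the formula `q (E, L) = E ⊗ L`.
-/

set_option autoImplicit false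
universe u
open CategoryTheory Limits MonoidalCategory CartesianMonoidalCategory MonObj AlgebraicGeometry
open Groth.Agent
open K518.Phi K319.Seesaw K757.TwistUSS K757.HomOver K757.Act K757.DetM0 K757.Fam K757.Root

namespace K28.SO

variable {k : Type u} [Field k] [IsAlgClosed k] {X : Scheme.{u}} {f : X ⟶ Spec (CommRingCat.of k)}
  [IsProper f] [Smooth f] [GeometricallyConnected f] (hdim : topologicalKrullDim X = 1)
  {J : Over (Spec (CommRingCat.of k))} [GrpObj J] [IsCommMonObj J] {ψ : (ModFun.PicDeg f 0).Hom ⊤ J}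
  (FJ : FineJ f J ψ) {r : ℕ} {M : Over (Spec (CommRingCat.of k))} (φ : (BunMod.USS f r 0).Hom ⊤ M)
  {dm : M ⟶ J} (hdm : BunMod.IsDetMap f (BunMod.ussOK f r 0) φ 0 ψ dm)

/-- `Θ` pulls back along `ξ ↦ E₁ ⊗ ξ` to `ΘJ^r`. -/
def Slice (E₁ : (PicF.XT f (𝟙_ (Over (Spec (CommRingCat.of k))))).Modules) (Θ : M.left.Modules)
    (ΘJ : J.left.Modules) : Prop :=
  ∀ h : (BunMod.USS f r 0).ok J (CohB1.tensorMod (pl f (toUnit J) E₁) FJ.P),
    Nonempty ((Scheme.Modules.pullback (φ.app J (CohB1.tensorMod (pl f (toUnit J) E₁) FJ.P) trivial h).left).obj Θ ≅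
      CohB1.tensorPow ΘJ r)

variable {φ}

include hdim hdm in
/-- **(STR), determinant `L₀`.** -/
theorem str_det [IsProper J.hom] [GeometricallyIntegral J.hom] (hr : 1 ≤ r) (hφ : UnivBest φ)
    (hM : LocallyOfFiniteType M.hom) (hMne : Nonempty M.left)
    {I : M.left.IdealSheafData} {Θ : M.left.Modules} (hΘ : PicF.IsInvertible Θ)
    (hI : ClSub.IsInverseOf Θ (ClSub.idealMod I)) {ΘJ : J.left.Modules} (hΘJ : PicF.IsInvertible ΘJ)
    {L₀ : X.Modules} (hL : ∀ T : Over (Spec (CommRingCat.of k)), (ModFun.PicDeg f 0).ok T (cst f T L₀))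
    {M' : Over (Spec (CommRingCat.of k))} {φ' : (BunMod.USSdet f r L₀).Hom ⊤ M'}
    (h' : ModFun.IsBestApprox ⊤ (BunMod.USSdet f r L₀) M' φ') (hp : IsProper M'.hom) (hint : IsIntegral M'.left)
    (hlnk : ∀ z z' : Pt M', Lnk M' z z')
    {E₁ : (PicF.XT f (𝟙_ (Over (Spec (CommRingCat.of k))))).Modules}
    (hE₁ : (BunMod.USSdet f r (Coh.structureModule X)).ok (𝟙_ (Over (Spec (CommRingCat.of k)))) E₁)
    (hB : Slice FJ φ E₁ Θ ΘJ) :
    ∃ (S : Groth.Agent.BunMod.K596.Str r dm Θ ΘJ) (e : S.M₀ ≅ M') (i : M' ⟶ M),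
      (∀ (T : Over (Spec (CommRingCat.of k))) (E : (PicF.XT f T).Modules) (hE : (BunMod.USSdet f r L₀).ok T E)
        (hE' : (BunMod.USS f r 0).ok T E), φ'.app T E trivial hE ≫ i = φ.app T E trivial hE') ∧
      Nonempty (S.A ≅ (Scheme.Modules.pullback e.hom.left).obj ((Scheme.Modules.pullback i.left).obj Θ)) := by
  obtain ⟨i, q, l, R, R', sq, hi, -, hq, hi', hRi, hR'i, hRR, hR', ⟨hR, -⟩, ⟨eR⟩, hval⟩ :=
    exists_q hdim hr FJ hφ hdm hL h'
  have hE₀ : (BunMod.USSdet f r L₀).ok (𝟙_ (Over (Spec (CommRingCat.of k))))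
      (CohB1.tensorMod E₁ (cst f (𝟙_ (Over (Spec (CommRingCat.of k)))) R)) := by
    obtain ⟨e1⟩ := unit_tens (CohB1.tensorPow R r)
    exact ⟨trivial, ussDetOK_tw hdim hRi ⟨e1 ≪≫ eR⟩ hE₁.2⟩
  have hE₀' : (BunMod.USSdet f r L₀).ok J (pl f (toUnit J)
      (CohB1.tensorMod E₁ (cst f (𝟙_ (Over (Spec (CommRingCat.of k)))) R))) :=
    ⟨trivial, ussDetOK_pull _ hE₀.2⟩
  have hE₁' : (BunMod.USS f r 0).ok J (pl f (toUnit J) E₁) :=
    ((ussDet_ok_iff hdim).1 (⟨trivial, ussDetOK_pull (toUnit J) hE₁.2⟩ :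
      (BunMod.USSdet f r (Coh.structureModule X)).ok J (pl f (toUnit J) E₁))).1
  have h1 : (BunMod.USS f r 0).ok J (CohB1.tensorMod (pl f (toUnit J) E₁) FJ.P) :=
    ⟨trivial, by
      have := K757.Geo.ussOK_tw (e := 0) hdim hE₁'.2 FJ.ok
      rwa [mul_zero, add_zero] at this⟩
  have e2 : Nonempty (CohB1.tensorMod (CohB1.tensorMod (pl f (toUnit J)
      (CohB1.tensorMod E₁ (cst f (𝟙_ (Over (Spec (CommRingCat.of k)))) R))) FJ.P) (cst f J R') ≅
      CohB1.tensorMod (pl f (toUnit J) E₁) FJ.P) := by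
    obtain ⟨a1⟩ := pull_tw (toUnit J) R E₁
    obtain ⟨a2⟩ := tens_congr ⟨a1⟩ ⟨Iso.refl FJ.P⟩
    obtain ⟨a3⟩ := tens_right_comm (pl f (toUnit J) E₁) (cst f J R) FJ.P
    obtain ⟨a4⟩ := tens_congr ⟨a2 ≪≫ a3⟩ ⟨Iso.refl (cst f J R')⟩
    obtain ⟨a5⟩ := tw_tw (T := J) hRR (CohB1.tensorMod (pl f (toUnit J) E₁) FJ.P)
    exact ⟨a4 ≪≫ a5⟩
  have h2 : (BunMod.USS f r 0).ok J (CohB1.tensorMod (CohB1.tensorMod (pl f (toUnit J)
      (CohB1.tensorMod E₁ (cst f (𝟙_ (Over (Spec (CommRingCat.of k)))) R))) FJ.P) (cst f J R')) := by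
    obtain ⟨e2⟩ := e2
    exact ⟨trivial, K757.Geo.ussOK_iso ⟨e2.symm⟩ h1.2⟩
  have hz : lift (toUnit J ≫ φ'.app _ _ trivial hE₀) (𝟙 J) ≫ q =
      φ.app J (CohB1.tensorMod (pl f (toUnit J) E₁) FJ.P) trivial h1 := by
    have h3 := hval J _ FJ.P hE₀' FJ.ok h2
    rw [FJ.psi] at h3
    have h4 : φ'.app J (pl f (toUnit J) (CohB1.tensorMod E₁ (cst f (𝟙_ (Over (Spec (CommRingCat.of k)))) R)))
        trivial hE₀' = toUnit J ≫ φ'.app _ _ trivial hE₀ := φ'.natural (toUnit J) _ trivial trivial hE₀ hE₀'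
    rw [← h4, h3]
    exact φ.resp _ _ trivial _ _ (r_of_iso f e2)
  obtain ⟨S, e, h3, h4⟩ := K28.SOCore.core hr sq hM hMne hp hint hΘ hI hΘJ (φ'.app _ _ trivial hE₀)
    (fun z => hlnk z _) (by rw [hz]; exact hB h1) hq
  exact ⟨S, e, i, hi', h4⟩

include hdim hdm in
/-- **(STR), trivial determinant.** -/
theorem str_one [IsProper J.hom] [GeometricallyIntegral J.hom] (hr : 1 ≤ r) (hφ : UnivBest φ)
    (hM : LocallyOfFiniteType M.hom) (hMne : Nonempty M.left)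
    {I : M.left.IdealSheafData} {Θ : M.left.Modules} (hΘ : PicF.IsInvertible Θ)
    (hI : ClSub.IsInverseOf Θ (ClSub.idealMod I)) {ΘJ : J.left.Modules} (hΘJ : PicF.IsInvertible ΘJ)
    {M' : Over (Spec (CommRingCat.of k))} {φ' : (BunMod.USSdet f r (Coh.structureModule X)).Hom ⊤ M'}
    (h' : ModFun.IsBestApprox ⊤ (BunMod.USSdet f r (Coh.structureModule X)) M' φ') (hp : IsProper M'.hom)
    (hint : IsIntegral M'.left) (hlnk : ∀ z z' : Pt M', Lnk M' z z')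
    {E₁ : (PicF.XT f (𝟙_ (Over (Spec (CommRingCat.of k))))).Modules}
    (hE₁ : (BunMod.USSdet f r (Coh.structureModule X)).ok (𝟙_ (Over (Spec (CommRingCat.of k)))) E₁)
    (hB : Slice FJ φ E₁ Θ ΘJ) :
    ∃ (S : Groth.Agent.BunMod.K596.Str r dm Θ ΘJ) (e : S.M₀ ≅ M') (i : M' ⟶ M),
      (∀ (T : Over (Spec (CommRingCat.of k))) (E : (PicF.XT f T).Modules)
        (hE : (BunMod.USSdet f r (Coh.structureModule X)).ok T E)
        (hE' : (BunMod.USS f r 0).ok T E), φ'.app T E trivial hE ≫ i = φ.app T E trivial hE') ∧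
      Nonempty (S.A ≅ (Scheme.Modules.pullback e.hom.left).obj ((Scheme.Modules.pullback i.left).obj Θ)) ∧
      ∀ (T : Over (Spec (CommRingCat.of k))) (E L : (PicF.XT f T).Modules)
        (hE : (BunMod.USSdet f r (Coh.structureModule X)).ok T E)
        (hL : (ModFun.PicDeg f 0).ok T L) (hEL : (BunMod.USS f r 0).ok T (CohB1.tensorMod E L)),
        lift (φ'.app T E trivial hE ≫ e.inv) (ψ.app T L trivial hL) ≫ S.q =
          φ.app T (CohB1.tensorMod E L) trivial hEL := by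
  obtain ⟨i, q, sq, hi, hq, hi', hval⟩ := exists_q_one hdim FJ hφ hdm h'
  have hE₁' : (BunMod.USSdet f r (Coh.structureModule X)).ok J (pl f (toUnit J) E₁) :=
    ⟨trivial, ussDetOK_pull (toUnit J) hE₁.2⟩
  have h1 : (BunMod.USS f r 0).ok J (CohB1.tensorMod (pl f (toUnit J) E₁) FJ.P) :=
    ⟨trivial, by
      have := K757.Geo.ussOK_tw (e := 0) hdim ((ussDet_ok_iff hdim).1 hE₁').1.2 FJ.ok
      rwa [mul_zero, add_zero] at this⟩
  have hz : lift (toUnit J ≫ φ'.app _ _ trivial hE₁) (𝟙 J) ≫ q =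
      φ.app J (CohB1.tensorMod (pl f (toUnit J) E₁) FJ.P) trivial h1 := by
    have h3 := hval J _ FJ.P hE₁' FJ.ok h1
    rw [FJ.psi] at h3
    have h4 : φ'.app J (pl f (toUnit J) E₁) trivial hE₁' = toUnit J ≫ φ'.app _ _ trivial hE₁ :=
      φ'.natural (toUnit J) _ trivial trivial hE₁ hE₁'
    rw [← h4, h3]
  have hq' : lift (𝟙 M') (toUnit M' ≫ (1 : Pt J)) ≫ q = i := by
    rw [comp_one]
    exact hq
  obtain ⟨S, e, h3, h4⟩ := K28.SOCore.core hr sq hM hMne hp hint hΘ hI hΘJ (φ'.app _ _ trivial hE₁)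
    (fun z => hlnk z _) (by rw [hz]; exact hB h1) hq'
  refine ⟨S, e, i, hi', h4, fun T E L hE hL hEL => ?_⟩
  have h5 : lift (φ'.app T E trivial hE ≫ e.inv) (ψ.app T L trivial hL) ≫ (e.hom ▷ J) =
      lift (φ'.app T E trivial hE) (ψ.app T L trivial hL) := by
    apply CartesianMonoidalCategory.hom_ext
    · simp
    · simp
  rw [h3, ← Category.assoc, h5, hval T E L hE hL hEL]

end K28.SO
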