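import Groth.Agent.AbVar.K518.Phi
import Groth.Agent.AbVar.K518.Sec
import Groth.Agent.Dix.IdealModCartier
import Groth.Agent.Dix.Cast5
import Groth.Agent.Ega2.SecCalc
import Groth.Agent.Ega2.BlowBasic
import Groth.Agent.Variety.K104.SemiA
import Groth.Agent.BunMod.K28.Pts

/-!
# Sections of the inverse of an invertible ideal on the slices of `q : M₀ × J ⟶ M`

* `exists_sec`: the canonical section of an inverse of an ideal.
* `exists_slice_sec`: if every point of `M` is `q (x, y)`, the restriction of such an inverse to some slice `M₀ × {y}`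
  has a nonzero section.
-/

set_option autoImplicit false
universe u

open CategoryTheory Limits MonoidalCategory CartesianMonoidalCategory AlgebraicGeometry
open scoped MonObj
open Groth.Agent.Grpsch.PicGrp Groth.Agent.Grpsch.Cube
open K518.Phi

namespace K28.Sec

variable {k : Type u} [Field k]

/-- An ideal with an inverse is an effective Cartier ideal. -/
theorem isEff {X : Scheme.{u}} {I : X.IdealSheafData} {L : X.Modules} (h : ClSub.IsInverseOf L (ClSub.idealMod I)) :
    BlowUp.IsEffCartierIdeal I :=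
  Groth.Agent.Dix.IdealModCartier.isEffCartierIdeal_of_isInvertible
    (Groth.Agent.Dix.IdealModCartier.isInvertible_of_isInverseOf h).2

/-- The canonical section of the inverse of an ideal. -/
theorem exists_sec {X : Scheme.{u}} (I : X.IdealSheafData) (L : X.Modules) (hL : PicF.IsInvertible L)
    (hLI : ClSub.IsInverseOf L (ClSub.idealMod I)) :
    ∃ s : Coh.structureModule X ⟶ L, (I.support : Set X) = (CohB1.genLocus L s : Set X)ᶜ := by
  have hI := isEff hLI
  have hk : I.subschemeι.ker = I := Scheme.IdealSheafData.ker_subschemeι I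
  have hs := Groth.Agent.Dix.Cast5.exists_section I.subschemeι (by rw [hk]; exact hI)
  rw [Scheme.IdealSheafData.range_subschemeι, hk] at hs
  obtain ⟨s, hs⟩ := hs
  have hIi := Groth.Agent.Dix.IdealModCartier.isInvertible_idealMod hI
  have hdi := isInvertible_dual hIi
  obtain ⟨e⟩ : Nonempty (dual (ClSub.idealMod I) ≅ L) := by
    obtain ⟨e1⟩ := hLI
    have h1 : mk L hL * mk _ hIi = 1 := mk_congr e1
    have h2 : mk _ hdi * mk _ hIi = 1 :=
      mk_congr (Groth.Agent.Ega2.Tens.swap _ _ ≪≫ (@asIso _ _ _ _ (ev (ClSub.idealMod I)) (isIso_ev hIi)))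
    exact (mk_eq_iff hdi hL).1 (mul_right_cancel (h2.trans h1.symm))
  refine ⟨s ≫ e.hom, ?_⟩
  rw [Groth.Agent.Ega2.SecCalc.genLocus_comp, hs, compl_compl]

/-- A nonzero section on a slice. -/
theorem exists_slice_sec [IsAlgClosed k] {M M₀ J : Over (Spec (CommRingCat.of k))} [LocallyOfFiniteType M.hom]
    (q : M₀ ⊗ J ⟶ M) (hq : ∀ m : Pt M, ∃ (x : Pt M₀) (y : Pt J), lift x y ≫ q = m)
    (hM : Nonempty M.left) (I : M.left.IdealSheafData) (Θ : M.left.Modules) (hΘ : PicF.IsInvertible Θ)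
    (hI : ClSub.IsInverseOf Θ (ClSub.idealMod I)) :
    ∃ (y : Pt J) (s : Coh.structureModule M₀.left ⟶
      (Scheme.Modules.pullback (lift (𝟙 M₀) (toUnit M₀ ≫ y) ≫ q).left).obj Θ), s ≠ 0 := by
  obtain ⟨s, hs⟩ := exists_sec I Θ hΘ hI
  obtain ⟨m, hm⟩ := K28.Pts.exists_pt_mem (M := M) (CohB1.genLocus Θ s) (by
    obtain ⟨x, hx⟩ := (Groth.Agent.Ega2.BlowBasic.dense_offSupport (isEff hI)).nonempty
    refine ⟨x, ?_⟩
    have hx' : x ∉ (I.support : Set M.left) := hx
    rw [hs] at hx'
    exact not_not.1 hx')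
  obtain ⟨x, y, rfl⟩ := hq m
  have hxy : lift x y ≫ q = x ≫ lift (𝟙 M₀) (toUnit M₀ ≫ y) ≫ q := by
    rw [← Category.assoc, comp_lift, Category.comp_id, ← Category.assoc,
      toUnit_unique (x ≫ toUnit M₀) (𝟙 _), Category.id_comp]
  let a : (𝟙_ (Over (Spec (CommRingCat.of k)))).left := IsLocalRing.closedPoint k
  have hg : (lift (𝟙 M₀) (toUnit M₀ ≫ y) ≫ q).left (x.left a) ∈ CohB1.genLocus Θ s := by
    have h1 := hm a
    rw [hxy, Over.comp_left] at h1
    exact h1
  obtain ⟨t, ht⟩ := K104.SemiA.exists_pull_section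
    (lift (𝟙 M₀) (toUnit M₀ ≫ y) ≫ q).left hΘ (x.left a) s hg
  refine ⟨y, t, fun h => ?_⟩
  rw [h, K518.Sec.genLocus_eq_bot_of_eq_zero] at ht
  exact ht

end K28.Sec
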