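import Groth.Agent.BunMod.K28.Str
import Groth.Agent.BunMod.K28.Sec

/-!
# The structure theorem from the square, the links and one restriction

`core`: for a cartesian square `q : M' × J ⟶ M` over `[r]`, `M'` proper integral with linked points, `Θ` an inverse of an
ideal on `M` whose restriction to one `{z₀} × J` is `ΘJ^r`: `K596.Str r dm Θ ΘJ` with `S.q = q` and `S.A = i^* Θ` for
`i = q (-, l)`.
-/

set_option autoImplicit false
universe u
open CategoryTheory Limits MonoidalCategory CartesianMonoidalCategory MonObj AlgebraicGeometry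
open Groth.Agent.Grpsch.PicGrp Groth.Agent.Grpsch.Cube
open K518.Phi K319.Seesaw

namespace K28.SOCore

variable {k : Type u} [Field k] [IsAlgClosed k]

/-- Points of `M` lift to `M' × J`. -/
theorem exists_lift_pt {M M' J : Over (Spec (CommRingCat.of k))} [GrpObj J] [IsProper J.hom]
    [GeometricallyIntegral J.hom] {dm : M ⟶ J} {q : M' ⊗ J ⟶ M} {r : ℕ} (hr : 1 ≤ r)
    (sq : IsPullback q (CartesianMonoidalCategory.snd M' J) dm ((𝟙 J) ^ r : J ⟶ J)) (m : Pt M) :
    ∃ (x : Pt M') (y : Pt J), lift x y ≫ q = m := by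
  obtain ⟨y, hy⟩ := K28.Pts.exists_pt_pow J hr (m ≫ dm)
  have hw : m ≫ dm = y ≫ (𝟙 J) ^ r := by rw [MonObj.comp_pow, Category.comp_id, hy]
  refine ⟨sq.lift m y hw ≫ CartesianMonoidalCategory.fst M' J, y, ?_⟩
  have h1 : lift (sq.lift m y hw ≫ CartesianMonoidalCategory.fst M' J) y = sq.lift m y hw := by
    apply CartesianMonoidalCategory.hom_ext
    · rw [lift_fst]
    · rw [lift_snd, sq.lift_snd]
  rw [h1, sq.lift_fst]

/-- **The structure theorem (STR)**. -/
theorem core {M M' J : Over (Spec (CommRingCat.of k))} [GrpObj J] [IsProper J.hom] [GeometricallyIntegral J.hom]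
    {dm : M ⟶ J} {q : M' ⊗ J ⟶ M} {r : ℕ} (hr : 1 ≤ r)
    (sq : IsPullback q (CartesianMonoidalCategory.snd M' J) dm ((𝟙 J) ^ r : J ⟶ J))
    (hM : LocallyOfFiniteType M.hom) (hMne : Nonempty M.left) (hp : IsProper M'.hom) (hint : IsIntegral M'.left)
    {I : M.left.IdealSheafData} {Θ : M.left.Modules} (hΘ : PicF.IsInvertible Θ)
    (hI : ClSub.IsInverseOf Θ (ClSub.idealMod I)) {ΘJ : J.left.Modules} (hΘJ : PicF.IsInvertible ΘJ)
    (z₀ : Pt M') (hlnk : ∀ z : Pt M', Lnk M' z z₀)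
    (hB : Nonempty ((Scheme.Modules.pullback (lift (toUnit J ≫ z₀) (𝟙 J) ≫ q).left).obj Θ ≅
      CohB1.tensorPow ΘJ r))
    {i : M' ⟶ M} {l : Pt J} (hl : lift (𝟙 M') (toUnit M' ≫ l) ≫ q = i) :
    ∃ (S : Groth.Agent.BunMod.K596.Str r dm Θ ΘJ) (e : S.M₀ ≅ M'), S.q = e.hom ▷ J ≫ q ∧
      Nonempty (S.A ≅ (Scheme.Modules.pullback e.hom.left).obj ((Scheme.Modules.pullback i.left).obj Θ)) := by
  subst hl
  obtain ⟨y, s, hs⟩ := K28.Sec.exists_slice_sec _ (exists_lift_pt hr sq) hMne _ Θ hΘ hI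
  obtain ⟨S, e, h1, h2⟩ := K28.Str.exists_str sq hp (K28.Pts.geometricallyIntegral M'.hom) hΘ hΘJ z₀ hlnk (by
    rw [← mk_tensorPow hΘJ r, pl, pull_mk, mk_eq_iff]
    exact hB) y s hs
  exact ⟨S, e, h1, h2 l⟩

end K28.SOCore
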