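import Groth.Agent.BunMod.K319.Seesaw
import Groth.Agent.BunMod.K319.Core
import Groth.Agent.BunMod.K596.Iface

/-!
# The structure theorem (STR) from the cartesian square and one restriction

* `eq_box`: a class on `A × B` whose restriction to all `{w} × B` is `b` is `p₁^*(M|_{A × z}) · p₂^* b`.
* `exists_str`: the cartesian square `M₀ × J ⟶ M` over `[r]`, all points of `M₀` linked to a point `z₀` with
  `q^* Θ |_{z₀ × J} = L^r`, and a nonzero section of the restriction of `Θ` to some `M₀ × {y}` give `K596.Str r dm Θ L`.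
-/

set_option autoImplicit false
universe u

open CategoryTheory Limits MonoidalCategory CartesianMonoidalCategory AlgebraicGeometry
open scoped MonObj
open Groth.Agent.Grpsch.PicGrp Groth.Agent.Grpsch.Cube
open K518.Phi K319.Seesaw

namespace K28.Str

variable {k : Type u} [Field k]

/-- **See-saw.** -/
theorem eq_box [IsAlgClosed k] (A B : Over (Spec (CommRingCat.of k))) [IsReduced A.left]
    [LocallyOfFiniteType A.hom] [IsProper B.hom] [GeometricallyIntegral B.hom] (M : Pic (A ⊗ B).left)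
    (b : Pic B.left) (h : ∀ w : Pt A, pl (lift (toUnit B ≫ w) (𝟙 B)) M = b) (z : Pt B) :
    M = pl (fst A B) (pl (lift (𝟙 A) (toUnit A ≫ z)) M) * pl (snd A B) b := by
  obtain ⟨d, hd⟩ := exists_pl_fst (A := A) (B := B) (M * (pl (snd A B) b)⁻¹) (fun w => by
    rw [map_mul, map_inv, h w, ← pl_comp, lift_snd, pl_id, mul_inv_cancel])
  have h1 : pl (lift (𝟙 A) (toUnit A ≫ z)) M = d := by
    have h2 := congrArg (pl (lift (𝟙 A) (toUnit A ≫ z))) hd
    rw [← pl_comp, lift_fst, pl_id, map_mul, map_inv, ← pl_comp, lift_snd, pl_const, inv_one, mul_one] at h2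
    exact h2.symm
  rw [h1, hd, inv_mul_cancel_right]

/-- Classes on `A × B` are constant along linked points of `A`, `B` a normal variety. -/
theorem pl_eq_of_lnk' (B : Over (Spec (CommRingCat.of k))) [IsIntegral B.left] (hN : Pi1.IsNormalScheme B.left)
    [IsSeparated B.hom] [LocallyOfFiniteType B.hom] [QuasiCompact B.hom] {A : Over (Spec (CommRingCat.of k))}
    (c : Pic (A ⊗ B).left) {x y : Pt A} (h : Lnk A x y) :
    pl (lift (toUnit B ≫ x) (𝟙 B)) c = pl (lift (toUnit B ≫ y) (𝟙 B)) c := by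
  have h1 := pl_eq_of_lnk B hN (pl (lift (snd B A) (fst B A)) c) h
  rw [← pl_comp, ← pl_comp, comp_lift, comp_lift, lift_fst, lift_snd, lift_fst, lift_snd] at h1
  exact h1

variable [IsAlgClosed k] {J : Over (Spec (CommRingCat.of k))} [GrpObj J]
  [IsProper J.hom] [GeometricallyIntegral J.hom]

/-- The class of `q^*Θ`. -/
theorem pl_q_eq {M M₀ : Over (Spec (CommRingCat.of k))} (q : M₀ ⊗ J ⟶ M) [IsReduced M₀.left]
    [LocallyOfFiniteType M₀.hom] (θ : Pic M.left) (l : Pic J.left) (z₀ : Pt M₀) (hlnk : ∀ z : Pt M₀, Lnk M₀ z z₀)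
    (hz : pl (lift (toUnit J ≫ z₀) (𝟙 J) ≫ q) θ = l) (y : Pt J) :
    pl q θ = pl (fst M₀ J) (pl (lift (𝟙 M₀) (toUnit M₀ ≫ y) ≫ q) θ) * pl (snd M₀ J) l := by
  have hintJ : IsIntegral J.left := K319.Core.isIntegral_left J
  rw [pl_comp _ q]
  exact eq_box M₀ J (pl q θ) l (fun w => by
    rw [pl_eq_of_lnk' J K319.Core.normal_of_grp _ (hlnk w), ← pl_comp, hz]) y

/-- The restrictions of `q^*Θ` to `M₀ × {y}` have the same class. -/
theorem pl_slice_eq {M M₀ : Over (Spec (CommRingCat.of k))} (q : M₀ ⊗ J ⟶ M) [IsReduced M₀.left]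
    [LocallyOfFiniteType M₀.hom] (θ : Pic M.left) (l : Pic J.left) (z₀ : Pt M₀) (hlnk : ∀ z : Pt M₀, Lnk M₀ z z₀)
    (hz : pl (lift (toUnit J ≫ z₀) (𝟙 J) ≫ q) θ = l) (y y' : Pt J) :
    pl (lift (𝟙 M₀) (toUnit M₀ ≫ y) ≫ q) θ = pl (lift (𝟙 M₀) (toUnit M₀ ≫ y') ≫ q) θ := by
  have h := congrArg (pl (lift (𝟙 M₀) (toUnit M₀ ≫ y'))) (pl_q_eq q θ l z₀ hlnk hz y)
  rw [← pl_comp, map_mul, ← pl_comp (lift (𝟙 M₀) (toUnit M₀ ≫ y')) (fst M₀ J), lift_fst, pl_id,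
    ← pl_comp (lift (𝟙 M₀) (toUnit M₀ ≫ y')) (snd M₀ J), lift_snd, pl_const, mul_one] at h
  exact h.symm

/-- **The structure theorem.**  `A` is the restriction of `Θ` along `M₀ × {y₀} ⟶ M`, `y₀` any point of `J`. -/
theorem exists_str {M M₀ : Over (Spec (CommRingCat.of k))} {dm : M ⟶ J} {q : M₀ ⊗ J ⟶ M} {r : ℕ}
    (sq : IsPullback q (snd M₀ J) dm ((𝟙 J) ^ r : J ⟶ J)) (hp : IsProper M₀.hom) (hg : GeometricallyIntegral M₀.hom)
    {Θ : M.left.Modules} (hΘ : PicF.IsInvertible Θ) {L : J.left.Modules} (hL : PicF.IsInvertible L)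
    (z₀ : Pt M₀) (hlnk : ∀ z : Pt M₀, Lnk M₀ z z₀)
    (hz : pl (lift (toUnit J ≫ z₀) (𝟙 J) ≫ q) (mk Θ hΘ) = (mk L hL) ^ r)
    (y : Pt J) (s : Coh.structureModule M₀.left ⟶
      (Scheme.Modules.pullback (lift (𝟙 M₀) (toUnit M₀ ≫ y) ≫ q).left).obj Θ) (hs : s ≠ 0) :
    ∃ S : Groth.Agent.BunMod.K596.Str r dm Θ L, ∃ e : S.M₀ ≅ M₀, S.q = e.hom ▷ J ≫ q ∧
      ∀ y₀ : Pt J, Nonempty (S.A ≅ (Scheme.Modules.pullback e.hom.left).obj
        ((Scheme.Modules.pullback (lift (𝟙 M₀) (toUnit M₀ ≫ y₀) ≫ q).left).obj Θ)) := by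
  have hint : IsIntegral M₀.left := K319.Core.isIntegral_left M₀
  have key := pl_q_eq q (mk Θ hΘ) ((mk L hL) ^ r) z₀ hlnk hz y
  refine ⟨⟨M₀, (Scheme.Modules.pullback (lift (𝟙 M₀) (toUnit M₀ ≫ y) ≫ q).left).obj Θ, q,
    Groth.Agent.Fdesc.LocGen.isInvertible_pullback _ hΘ, hp, hg, sq, ?_, ⟨s, hs⟩⟩, Iso.refl _, ?_, fun y₀ => ?_⟩
  · rw [← mk_tensorPow hL r, pl, pl, pl, pl, pull_mk, pull_mk, pull_mk, pull_mk, mk_mul_mk, mk_eq_iff] at key
    exact key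
  · simp
  · have hsl := pl_slice_eq q (mk Θ hΘ) ((mk L hL) ^ r) z₀ hlnk hz y y₀
    rw [pl, pl, pull_mk, pull_mk, mk_eq_iff] at hsl
    obtain ⟨e⟩ := hsl
    exact ⟨e ≪≫ ((Scheme.Modules.pullbackId _).app _).symm⟩

end K28.Str
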